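import Mathlib
import Cfsg.Prelude.Def_OddOrderLocal
import Cfsg.Agent.S3866

/-!
Coordinates for finite metacyclic `p`-groups: `G = ⟨a⟩⟨b⟩`, `⟨a⟩` normal of order `p ^ m`,
`b a b⁻¹ = a ^ (1 + d)` with `p ∣ d`, `|G : ⟨a⟩| = p ^ J`, `gcd (p ^ m, d) = p ^ e`.
-/

set_option autoImplicit false

namespace Cfsg.Agent.Lib.Helper68

section arith

theorem key_dvd {p : ℕ} (hp : p.Prime) (hp2 : p ≠ 2) {d : ℕ} (hd : p ∣ d) (M k j : ℕ) :
    p ^ M ∣ k * ((1 + d) ^ j - 1) ↔ p ^ M ∣ k * (d * j) := by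
  have := Fact.mk hp
  rcases Nat.eq_zero_or_pos k with rfl | hk
  · simp
  rcases Nat.eq_zero_or_pos d with rfl | hd0
  · simp
  rcases Nat.eq_zero_or_pos j with rfl | hj
  · simp
  have hA : (1 + d) ^ j - 1 ≠ 0 := by
    have : 1 < (1 + d) ^ j := Nat.one_lt_pow hj.ne' (by omega)
    omega
  have hodd : Odd p := hp.odd_of_ne_two hp2
  have hx : ¬ p ∣ 1 + d := by
    intro h
    have : p ∣ 1 := (Nat.dvd_add_left hd).1 h
    exact hp.one_lt.ne' (Nat.dvd_one.1 this)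
  have hv : padicValNat p ((1 + d) ^ j - 1) = padicValNat p d + padicValNat p j := by
    have h1 := padicValNat.pow_sub_pow hodd (x := 1 + d) (y := 1) (by omega)
      (by rw [Nat.add_sub_cancel_left]; exact hd) hx hj.ne'
    rw [one_pow, Nat.add_sub_cancel_left] at h1
    exact h1
  rw [padicValNat_dvd_iff_le (Nat.mul_ne_zero hk.ne' hA),
    padicValNat_dvd_iff_le (Nat.mul_ne_zero hk.ne' (Nat.mul_ne_zero hd0.ne' hj.ne')),
    padicValNat.mul hk.ne' hA, padicValNat.mul hk.ne' (Nat.mul_ne_zero hd0.ne' hj.ne'),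
    padicValNat.mul hd0.ne' hj.ne', hv]

theorem pow_dvd_pow_mul_iff {p : ℕ} (hp : p.Prime) {m d e : ℕ} (he : Nat.gcd (p ^ m) d = p ^ e)
    {M w : ℕ} (hM : M ≤ m) : p ^ M ∣ p ^ w * d ↔ M ≤ w + e := by
  constructor
  · intro h
    by_contra hcon
    push Not at hcon
    have h1 : p ^ M = p ^ w * p ^ (M - w) := by
      rw [← pow_add]
      congr 1
      omega
    rw [h1] at h
    have h2 : p ^ (M - w) ∣ d := (Nat.mul_dvd_mul_iff_left (pow_pos hp.pos w)).1 h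
    have h3 : p ^ (M - w) ∣ p ^ m := pow_dvd_pow p (by omega)
    have h4 : p ^ (M - w) ∣ p ^ e := he ▸ Nat.dvd_gcd h3 h2
    have h5 := (Nat.pow_dvd_pow_iff_le_right hp.one_lt).1 h4
    omega
  · intro h
    have h1 : p ^ e ∣ d := he ▸ Nat.gcd_dvd_right _ _
    have h2 : p ^ (w + e) ∣ p ^ w * d := by
      rw [pow_add]
      exact Nat.mul_dvd_mul_left _ h1
    exact (pow_dvd_pow p h).trans h2

end arith

section cyc

/-- subgroups of a cyclic `p`-group in terms of exponents. -/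
theorem pow_mem_iff {G : Type*} [Group G] {p : ℕ} (hp : p.Prime) (x : G) (J : ℕ)
    (hx : orderOf x = p ^ J) (H : Subgroup G) :
    ∃ v, v ≤ J ∧ ∀ k : ℕ, x ^ k ∈ H ↔ p ^ v ∣ k := by
  classical
  have hex : ∃ v, x ^ (p ^ v) ∈ H := ⟨J, by rw [← hx, pow_orderOf_eq_one]; exact H.one_mem⟩
  refine ⟨Nat.find hex, Nat.find_min' hex (by rw [← hx, pow_orderOf_eq_one]; exact H.one_mem), ?_⟩
  intro k
  constructor
  · intro hk
    obtain ⟨w, _, hw⟩ := (Nat.dvd_prime_pow hp).1 (Nat.gcd_dvd_right k (p ^ J))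
    have hg : x ^ (Nat.gcd k (p ^ J)) ∈ H := by
      have h1 := Nat.gcd_eq_gcd_ab k (p ^ J)
      have h2 : x ^ ((Nat.gcd k (p ^ J) : ℕ) : ℤ) = (x ^ k) ^ (Nat.gcdA k (p ^ J)) := by
        rw [h1, zpow_add, zpow_mul, zpow_mul, zpow_natCast, zpow_natCast, ← hx,
          pow_orderOf_eq_one, one_zpow, mul_one]
      rw [← zpow_natCast, h2]
      exact H.zpow_mem hk _
    rw [hw] at hg
    have h3 : Nat.find hex ≤ w := Nat.find_min' hex hg
    exact (pow_dvd_pow p h3).trans (hw ▸ Nat.gcd_dvd_left k (p ^ J))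
  · rintro ⟨c, rfl⟩
    rw [pow_mul]
    exact H.pow_mem (Nat.find_spec hex) c

theorem exists_nat_pow {G : Type*} [Group G] [Finite G] (x : G) (k : ℤ) :
    ∃ j : ℕ, x ^ k = x ^ j :=
  ⟨(k % (orderOf x : ℤ)).toNat, by
    rw [← zpow_natCast, Int.toNat_of_nonneg
      (Int.emod_nonneg _ (by exact_mod_cast (orderOf_pos x).ne')), zpow_mod_orderOf]⟩

end cyc

section general

variable {G : Type*} [Group G]

theorem card_mul_relIndex' {H K : Subgroup G} (h : H ≤ K) :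
    Nat.card H * H.relIndex K = Nat.card K := by
  have h1 := Subgroup.card_mul_index (H.subgroupOf K)
  have h2 : Nat.card (H.subgroupOf K) = Nat.card H :=
    Nat.card_congr (Subgroup.subgroupOfEquivOfLe h).toEquiv
  rw [h2] at h1
  exact h1

/-- conjugation by powers. -/
theorem conj_pow_pow {a b : G} {d : ℕ} (h : b * a * b⁻¹ = a ^ (1 + d)) (j k : ℕ) :
    b ^ j * a ^ k * (b ^ j)⁻¹ = a ^ (k * (1 + d) ^ j) := by
  induction j with
  | zero => simp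
  | succ j ih =>
    have h1 : b ^ (j + 1) * a ^ k * (b ^ (j + 1))⁻¹ = b * (b ^ j * a ^ k * (b ^ j)⁻¹) * b⁻¹ := by
      rw [pow_succ']
      group
    rw [h1, ih, ← conj_pow, h, ← pow_mul]
    congr 1
    ring

theorem gen_of_dec {a b : G} (hdec : ∀ g : G, ∃ i j : ℕ, g = a ^ i * b ^ j) :
    Subgroup.zpowers a ⊔ Subgroup.zpowers b = ⊤ := by
  rw [eq_top_iff]
  intro g _
  obtain ⟨i, j, rfl⟩ := hdec g
  exact Subgroup.mul_mem _ (Subgroup.mem_sup_left (Subgroup.npow_mem_zpowers a i))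
    (Subgroup.mem_sup_right (Subgroup.npow_mem_zpowers b j))

/-- the commutator subgroup of `⟨a⟩⟨b⟩` with `b a b⁻¹ = a ^ (1 + d)`. -/
theorem commutator_eq_zpowers [Finite G] {a b : G} {d : ℕ} (hn : (Subgroup.zpowers a).Normal)
    (hdec : ∀ g : G, ∃ i j : ℕ, g = a ^ i * b ^ j) (hd : b * a * b⁻¹ = a ^ (1 + d)) :
    commutator G = Subgroup.zpowers (a ^ d) := by
  have R1 := Cfsg.Agent.S3866.result (Subgroup.zpowers a) inferInstance b (gen_of_dec hdec)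
  have hform : ∀ k : ℤ, b * a ^ k * b⁻¹ * (a ^ k)⁻¹ = (a ^ d) ^ k := by
    intro k
    rw [← conj_zpow, hd, ← zpow_natCast a (1 + d), ← zpow_natCast a d, ← zpow_mul, ← zpow_mul,
      ← zpow_neg, ← zpow_add]
    congr 1
    push_cast
    ring
  ext c
  constructor
  · intro hc
    obtain ⟨x, hx, rfl⟩ := R1.2.1 c hc
    obtain ⟨k, rfl⟩ := Subgroup.mem_zpowers_iff.1 hx
    rw [hform k]
    exact Subgroup.zpow_mem_zpowers _ k
  · intro hc
    obtain ⟨k, rfl⟩ := Subgroup.mem_zpowers_iff.1 hc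
    rw [← hform k]
    exact R1.1 _ (Subgroup.zpow_mem_zpowers a k)

theorem card_commutator_eq [Finite G] {a b : G} {d : ℕ} (hn : (Subgroup.zpowers a).Normal)
    (hdec : ∀ g : G, ∃ i j : ℕ, g = a ^ i * b ^ j) (hd : b * a * b⁻¹ = a ^ (1 + d)) :
    Nat.card (commutator G) = orderOf a / Nat.gcd (orderOf a) d := by
  rw [commutator_eq_zpowers hn hdec hd, Nat.card_zpowers, orderOf_pow]

end general

/-- coordinates of a metacyclic `p`-group. -/
structure MC {G : Type*} [Group G] (p : ℕ) (a b : G) (m J d e : ℕ) : Prop where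
  ha : orderOf a = p ^ m
  hnorm : (Subgroup.zpowers a).Normal
  hconj : b * a * b⁻¹ = a ^ (1 + d)
  hpd : p ∣ d
  hdec : ∀ g : G, ∃ i j : ℕ, g = a ^ i * b ^ j
  hJ : ∀ k : ℕ, b ^ k ∈ Subgroup.zpowers a ↔ p ^ J ∣ k
  he : Nat.gcd (p ^ m) d = p ^ e
  hcard : Nat.card G = p ^ m * p ^ J

theorem exists_MC {G : Type*} [Group G] [Finite G] {p : ℕ} [Fact p.Prime] (hG : IsPGroup p G)
    (hmc : Cfsg.IsMetacyclic G) : ∃ (a b : G) (m J d e : ℕ), MC p a b m J d e := by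
  have hpp : p.Prime := Fact.out
  obtain ⟨N, hNn, hNc, hQc⟩ := hmc
  obtain ⟨⟨a, haN⟩, ha⟩ := hNc.exists_generator
  have hNa : N = Subgroup.zpowers a := by
    ext x
    constructor
    · intro hx
      obtain ⟨k, hk⟩ := Subgroup.mem_zpowers_iff.1 (ha ⟨x, hx⟩)
      exact Subgroup.mem_zpowers_iff.2 ⟨k, by simpa using congrArg Subtype.val hk⟩
    · intro hx
      obtain ⟨k, rfl⟩ := Subgroup.mem_zpowers_iff.1 hx
      exact N.zpow_mem haN k
  subst hNa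
  obtain ⟨q, hq⟩ := hQc.exists_generator
  obtain ⟨b, rfl⟩ := QuotientGroup.mk_surjective q
  have hdec : ∀ g : G, ∃ i j : ℕ, g = a ^ i * b ^ j := by
    intro g
    obtain ⟨k, hk⟩ := Subgroup.mem_zpowers_iff.1 (hq (g : G ⧸ Subgroup.zpowers a))
    have h1 : (b ^ k)⁻¹ * g ∈ Subgroup.zpowers a := by
      rw [← QuotientGroup.eq, ← hk]
      rfl
    have h2 : b ^ k * ((b ^ k)⁻¹ * g) * (b ^ k)⁻¹ ∈ Subgroup.zpowers a := hNn.conj_mem _ h1 _
    obtain ⟨z, hz⟩ := Subgroup.mem_zpowers_iff.1 h2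
    obtain ⟨i, hi⟩ := exists_nat_pow a z
    obtain ⟨j, hj⟩ := exists_nat_pow b k
    refine ⟨i, j, ?_⟩
    rw [← hi, ← hj, hz]
    group
  obtain ⟨m, hm⟩ : ∃ m, orderOf a = p ^ m := by
    obtain ⟨k, hk⟩ := hG a
    obtain ⟨n, _, hn⟩ := (Nat.dvd_prime_pow hpp).1 (orderOf_dvd_of_pow_eq_one hk)
    exact ⟨n, hn⟩
  have hapos : 0 < orderOf a := orderOf_pos a
  obtain ⟨d, hd, hpd⟩ : ∃ d : ℕ, b * a * b⁻¹ = a ^ (1 + d) ∧ p ∣ d := by
    by_cases hm0 : m = 0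
    · refine ⟨0, ?_, dvd_zero p⟩
      have : a = 1 := by
        rw [← orderOf_eq_one_iff, hm, hm0, pow_zero]
      rw [this]
      simp
    · obtain ⟨k, hk⟩ := Subgroup.mem_zpowers_iff.1 (hNn.conj_mem a (Subgroup.mem_zpowers a) b)
      have hk' : a ^ (k % (orderOf a : ℤ)) = a ^ k := zpow_mod_orderOf a k
      have hnn : 0 ≤ k % (orderOf a : ℤ) := Int.emod_nonneg _ (by exact_mod_cast hapos.ne')
      have hd : b * a * b⁻¹ = a ^ (1 + ((k % (orderOf a : ℤ)).toNat + (orderOf a - 1))) := by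
        have e1 : 1 + ((k % (orderOf a : ℤ)).toNat + (orderOf a - 1))
            = (k % (orderOf a : ℤ)).toNat + orderOf a := by omega
        rw [e1, pow_add, pow_orderOf_eq_one, mul_one, ← hk, ← hk', ← zpow_natCast,
          Int.toNat_of_nonneg hnn]
      refine ⟨_, hd, ?_⟩
      generalize (k % (orderOf a : ℤ)).toNat + (orderOf a - 1) = d0 at hd
      obtain ⟨t, ht⟩ := hG b
      have h1 := conj_pow_pow hd (p ^ t) 1
      rw [ht] at h1
      have h2 : a ^ ((1 + d0) ^ p ^ t) = a ^ 1 := by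
        simpa using h1.symm
      rw [pow_eq_pow_iff_modEq, hm] at h2
      have h3 : (1 + d0) ^ p ^ t ≡ 1 [MOD p] := Nat.ModEq.of_dvd (dvd_pow_self p hm0) h2
      have h4 := (ZMod.natCast_eq_natCast_iff _ _ _).2 h3
      push_cast at h4
      rw [ZMod.pow_card_pow] at h4
      rw [← ZMod.natCast_eq_zero_iff]
      simpa using h4
  have hb1 : ∀ k : ℕ, ((b : G ⧸ Subgroup.zpowers a)) ^ k = 1 ↔ b ^ k ∈ Subgroup.zpowers a := by
    intro k
    have e1 : ((b : G ⧸ Subgroup.zpowers a)) ^ k = ((b ^ k : G) : G ⧸ Subgroup.zpowers a) := rfl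
    rw [e1, QuotientGroup.eq_one_iff]
  obtain ⟨J, hJ⟩ : ∃ J, orderOf ((b : G ⧸ Subgroup.zpowers a)) = p ^ J := by
    obtain ⟨k, hk⟩ := hG b
    have : ((b : G ⧸ Subgroup.zpowers a)) ^ (p ^ k) = 1 := by
      rw [hb1, hk]
      exact one_mem _
    obtain ⟨n, _, hn⟩ := (Nat.dvd_prime_pow hpp).1 (orderOf_dvd_of_pow_eq_one this)
    exact ⟨n, hn⟩
  obtain ⟨e, _, he⟩ := (Nat.dvd_prime_pow hpp).1 (Nat.gcd_dvd_left (p ^ m) d)
  refine ⟨a, b, m, J, d, e, hm, hNn, hd, hpd, hdec, ?_, he, ?_⟩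
  · intro k
    rw [← hb1, ← hJ, orderOf_dvd_iff_pow_eq_one]
  · rw [Subgroup.card_eq_card_quotient_mul_card_subgroup (Subgroup.zpowers a), Nat.card_zpowers,
      hm, mul_comm]
    congr 1
    have htop : Subgroup.zpowers ((b : G ⧸ Subgroup.zpowers a)) = ⊤ := by
      rw [eq_top_iff]
      intro x _
      exact hq x
    rw [← hJ, ← Nat.card_zpowers, htop, Subgroup.card_top]

namespace MC

variable {G : Type*} [Group G] [Finite G] {p : ℕ} {a b : G} {m J d e : ℕ}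

theorem commute_iff (h : MC p a b m J d e) (hp : p.Prime) (hp2 : p ≠ 2) (j k : ℕ) :
    Commute (b ^ j) (a ^ k) ↔ p ^ m ∣ k * (d * j) := by
  have h1 := conj_pow_pow h.hconj j k
  have h2 : Commute (b ^ j) (a ^ k) ↔ a ^ (k * (1 + d) ^ j) = a ^ k := by
    rw [← h1]
    constructor
    · intro hc
      rw [hc.eq]
      group
    · intro hc
      show b ^ j * a ^ k = a ^ k * b ^ j
      calc b ^ j * a ^ k = b ^ j * a ^ k * (b ^ j)⁻¹ * b ^ j := by group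
        _ = a ^ k * b ^ j := by rw [hc]
  rw [h2, pow_eq_pow_iff_modEq, h.ha, ← key_dvd hp hp2 h.hpd]
  have hle : k ≤ k * (1 + d) ^ j := Nat.le_mul_of_pos_right k (pow_pos (by omega) j)
  rw [Nat.ModEq.comm, Nat.modEq_iff_dvd' hle, Nat.mul_sub_one]

theorem e_le (h : MC p a b m J d e) (hp : p.Prime) : e ≤ m := by
  have : p ^ e ∣ p ^ m := h.he ▸ Nat.gcd_dvd_left _ _
  exact (Nat.pow_dvd_pow_iff_le_right hp.one_lt).1 this

theorem commute_pow_iff (h : MC p a b m J d e) (hp : p.Prime) (hp2 : p ≠ 2) (u v : ℕ) :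
    Commute (b ^ p ^ v) (a ^ p ^ u) ↔ m ≤ u + v + e := by
  rw [h.commute_iff hp hp2]
  have : p ^ u * (d * p ^ v) = p ^ (u + v) * d := by
    rw [pow_add]
    ring
  rw [this, pow_dvd_pow_mul_iff hp h.he le_rfl]

theorem m_le (h : MC p a b m J d e) (hp : p.Prime) (hp2 : p ≠ 2) : m ≤ e + J := by
  have h1 : b ^ p ^ J ∈ Subgroup.zpowers a := (h.hJ _).2 dvd_rfl
  obtain ⟨z, hz⟩ := Subgroup.mem_zpowers_iff.1 h1
  have hc : Commute (b ^ p ^ J) (a ^ p ^ 0) := by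
    rw [← hz, pow_zero, pow_one]
    exact (Commute.refl a).zpow_left z
  have := (h.commute_pow_iff hp hp2 0 J).1 hc
  omega

theorem card_commutator (h : MC p a b m J d e) (hp : p.Prime) :
    Nat.card (commutator G) = p ^ (m - e) := by
  rw [card_commutator_eq h.hnorm h.hdec h.hconj, h.ha, h.he, Nat.pow_div (h.e_le hp) hp.pos]

theorem index_commutator (h : MC p a b m J d e) (hp : p.Prime) :
    (commutator G).index = p ^ (e + J) := by
  have h1 := Subgroup.card_mul_index (commutator G)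
  rw [h.card_commutator hp, h.hcard] at h1
  have h2 : p ^ (m - e) * p ^ (e + J) = p ^ m * p ^ J := by
    rw [← pow_add, ← pow_add]
    congr 1
    have := h.e_le hp
    omega
  exact Nat.eq_of_mul_eq_mul_left (pow_pos hp.pos (m - e)) (h1.trans h2.symm)

/-- coordinates of a subgroup `L`: `L ∩ ⟨a⟩ = ⟨a ^ p ^ u⟩` and `L = ⟨a ^ i * b ^ p ^ v⟩ (L ∩ ⟨a⟩)`. -/
theorem sub_coords (h : MC p a b m J d e) (hp : p.Prime) (L : Subgroup G) :
    ∃ u v i : ℕ, u ≤ m ∧ v ≤ J ∧ (∀ k : ℕ, a ^ k ∈ L ↔ p ^ u ∣ k) ∧ a ^ i * b ^ p ^ v ∈ L ∧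
      (∀ x ∈ L, ∃ s t : ℕ, x = (a ^ i * b ^ p ^ v) ^ s * (a ^ p ^ u) ^ t) ∧
      Nat.card L = p ^ (m - u) * p ^ (J - v) ∧ (∀ i' k : ℕ, a ^ i' * b ^ k ∈ L → p ^ v ∣ k) := by
  have hn := h.hnorm
  obtain ⟨u, hu, hu'⟩ := pow_mem_iff hp a m h.ha L
  have hβ1 : ∀ k : ℕ, ((b : G ⧸ Subgroup.zpowers a)) ^ k = 1 ↔ p ^ J ∣ k := by
    intro k
    have e1 : ((b : G ⧸ Subgroup.zpowers a)) ^ k = ((b ^ k : G) : G ⧸ Subgroup.zpowers a) := rfl
    rw [e1, QuotientGroup.eq_one_iff, h.hJ]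
  have hβord : orderOf ((b : G ⧸ Subgroup.zpowers a)) = p ^ J :=
    Nat.dvd_antisymm (orderOf_dvd_iff_pow_eq_one.2 ((hβ1 _).2 dvd_rfl))
      ((hβ1 _).1 (pow_orderOf_eq_one _))
  obtain ⟨v, hv, hv'⟩ := pow_mem_iff hp ((b : G ⧸ Subgroup.zpowers a)) J hβord
    (L.map (QuotientGroup.mk' (Subgroup.zpowers a)))
  have hy0 : ((b : G ⧸ Subgroup.zpowers a)) ^ p ^ v ∈ L.map (QuotientGroup.mk' (Subgroup.zpowers a)) :=
    (hv' _).2 dvd_rfl
  obtain ⟨y, hyL, hy⟩ := Subgroup.mem_map.1 hy0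
  have hy' : ((y : G) : G ⧸ Subgroup.zpowers a) = ((b : G ⧸ Subgroup.zpowers a)) ^ p ^ v := hy
  have hy1 : (b ^ p ^ v)⁻¹ * y ∈ Subgroup.zpowers a := by
    rw [← QuotientGroup.eq]
    exact hy'.symm
  have hy2 : y * (b ^ p ^ v)⁻¹ ∈ Subgroup.zpowers a := by
    have := hn.conj_mem _ hy1 (b ^ p ^ v)
    simpa [mul_assoc] using this
  obtain ⟨z, hz⟩ := Subgroup.mem_zpowers_iff.1 hy2
  obtain ⟨i, hi⟩ := exists_nat_pow a z
  have hyi : y = a ^ i * b ^ p ^ v := by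
    rw [← hi, hz]
    group
  have hLN : L ⊓ Subgroup.zpowers a = Subgroup.zpowers (a ^ p ^ u) := by
    ext x
    rw [Subgroup.mem_inf]
    constructor
    · rintro ⟨hxL, hxN⟩
      obtain ⟨z, rfl⟩ := Subgroup.mem_zpowers_iff.1 hxN
      obtain ⟨k, hk⟩ := exists_nat_pow a z
      rw [hk] at hxL ⊢
      obtain ⟨c, rfl⟩ := (hu' k).1 hxL
      rw [pow_mul]
      exact Subgroup.npow_mem_zpowers _ c
    · intro hx
      obtain ⟨z, rfl⟩ := Subgroup.mem_zpowers_iff.1 hx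
      exact ⟨L.zpow_mem ((hu' _).2 dvd_rfl) z,
        Subgroup.zpow_mem _ (Subgroup.npow_mem_zpowers a _) z⟩
  have hmk : ∀ i' k : ℕ, ((a ^ i' * b ^ k : G) : G ⧸ Subgroup.zpowers a)
      = ((b : G ⧸ Subgroup.zpowers a)) ^ k := by
    intro i' k
    have : ((a ^ i' : G) : G ⧸ Subgroup.zpowers a) = 1 :=
      (QuotientGroup.eq_one_iff _).2 (Subgroup.npow_mem_zpowers a i')
    rw [QuotientGroup.mk_mul, this, one_mul]
    rfl
  have hmap : L.map (QuotientGroup.mk' (Subgroup.zpowers a))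
      = Subgroup.zpowers (((b : G ⧸ Subgroup.zpowers a)) ^ p ^ v) := by
    ext x
    constructor
    · intro hx
      obtain ⟨g, rfl⟩ := QuotientGroup.mk_surjective x
      obtain ⟨i', k, rfl⟩ := h.hdec g
      rw [hmk] at hx ⊢
      obtain ⟨c, rfl⟩ := (hv' k).1 hx
      rw [pow_mul]
      exact Subgroup.npow_mem_zpowers _ c
    · intro hx
      obtain ⟨z, rfl⟩ := Subgroup.mem_zpowers_iff.1 hx
      exact Subgroup.zpow_mem _ hy0 z
  have hdecL : ∀ x ∈ L, ∃ s t : ℕ, x = y ^ s * (a ^ p ^ u) ^ t := by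
    intro x hx
    have hx1 : ((x : G) : G ⧸ Subgroup.zpowers a)
        ∈ Subgroup.zpowers (((b : G ⧸ Subgroup.zpowers a)) ^ p ^ v) :=
      hmap ▸ Subgroup.mem_map_of_mem _ hx
    obtain ⟨z, hz⟩ := Subgroup.mem_zpowers_iff.1 hx1
    obtain ⟨s, hs⟩ := exists_nat_pow (((b : G ⧸ Subgroup.zpowers a)) ^ p ^ v) z
    have hx2 : (y ^ s)⁻¹ * x ∈ Subgroup.zpowers a := by
      rw [← QuotientGroup.eq]
      have : ((y ^ s : G) : G ⧸ Subgroup.zpowers a) = (y : G ⧸ Subgroup.zpowers a) ^ s := rfl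
      rw [this, hy', ← hs, hz]
    have hx3 : (y ^ s)⁻¹ * x ∈ L ⊓ Subgroup.zpowers a :=
      ⟨L.mul_mem (L.inv_mem (L.pow_mem hyL s)) hx, hx2⟩
    rw [hLN] at hx3
    obtain ⟨z2, hz2⟩ := Subgroup.mem_zpowers_iff.1 hx3
    obtain ⟨t, ht⟩ := exists_nat_pow (a ^ p ^ u) z2
    exact ⟨s, t, by rw [← ht, hz2]; group⟩
  have hcard : Nat.card L = p ^ (m - u) * p ^ (J - v) := by
    have h1 : Nat.card (Subgroup.zpowers a ⊓ L : Subgroup G) * (Subgroup.zpowers a ⊓ L).relIndex L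
        = Nat.card L := card_mul_relIndex' inf_le_right
    have h2 : (Subgroup.zpowers a).relIndex L
        = Nat.card (L.map (QuotientGroup.mk' (Subgroup.zpowers a))) := by
      have := Subgroup.relIndex_ker (QuotientGroup.mk' (Subgroup.zpowers a)) (K := L)
      rwa [QuotientGroup.ker_mk'] at this
    rw [Subgroup.inf_relIndex_right, h2, inf_comm, hLN, hmap, Nat.card_zpowers, Nat.card_zpowers,
      orderOf_pow, orderOf_pow, h.ha, hβord, Nat.gcd_eq_right (pow_dvd_pow p hu),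
      Nat.gcd_eq_right (pow_dvd_pow p hv), Nat.pow_div hu hp.pos, Nat.pow_div hv hp.pos] at h1
    exact h1.symm
  refine ⟨u, v, i, hu, hv, hu', hyi ▸ hyL, ?_, hcard, ?_⟩
  · intro x hx
    obtain ⟨s, t, hst⟩ := hdecL x hx
    exact ⟨s, t, hyi ▸ hst⟩
  · intro i' k hk
    have := Subgroup.mem_map_of_mem (QuotientGroup.mk' (Subgroup.zpowers a)) hk
    have h3 : ((a ^ i' * b ^ k : G) : G ⧸ Subgroup.zpowers a)
        ∈ L.map (QuotientGroup.mk' (Subgroup.zpowers a)) := this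
    rw [hmk] at h3
    exact (hv' k).1 h3

end MC

end Cfsg.Agent.Lib.Helper68
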