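import Mathlib
import Cfsg.Agent.Lib.Helper68.Metacyclic

/-!
Subgroups of metacyclic `p`-groups in coordinates: order, commutativity, derived subgroup.
-/

set_option autoImplicit false

namespace Cfsg.Agent.Lib.Helper68

theorem isMetacyclic_of_dec {G : Type*} [Group G] {a b : G} (hn : (Subgroup.zpowers a).Normal)
    (hdec : ∀ g : G, ∃ i j : ℕ, g = a ^ i * b ^ j) : Cfsg.IsMetacyclic G := by
  refine ⟨Subgroup.zpowers a, hn, inferInstance, ⟨⟨(b : G ⧸ Subgroup.zpowers a), fun x => ?_⟩⟩⟩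
  obtain ⟨g, rfl⟩ := QuotientGroup.mk_surjective x
  obtain ⟨i, j, rfl⟩ := hdec g
  refine ⟨(j : ℤ), ?_⟩
  show ((b : G ⧸ Subgroup.zpowers a)) ^ (j : ℤ) = _
  rw [zpow_natCast, QuotientGroup.mk_mul,
    (QuotientGroup.eq_one_iff _).2 (Subgroup.npow_mem_zpowers a i), one_mul]
  rfl

namespace MC

variable {G : Type*} [Group G] [Finite G] {p : ℕ} {a b : G} {m J d e : ℕ}

/-- a subgroup `L` of a metacyclic `p`-group: order, metacyclicity, commutativity criterion and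
order of the derived subgroup. -/
theorem sub_data (h : MC p a b m J d e) (hp : p.Prime) (hp2 : p ≠ 2) (L : Subgroup G) :
    ∃ u v : ℕ, u ≤ m ∧ v ≤ J ∧ Nat.card L = p ^ (m - u) * p ^ (J - v) ∧ Cfsg.IsMetacyclic ↥L ∧
      (IsMulCommutative ↥L ↔ m ≤ u + v + e) ∧
      (¬ (m ≤ u + v + e) → Nat.card (commutator ↥L) = p ^ (m - u - e - v)) := by
  obtain ⟨u, v, i, hu, hv, hu', hyL, hdecL, hcard, _⟩ := h.sub_coords hp L
  have haL : a ^ p ^ u ∈ L := (hu' _).2 dvd_rfl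
  have hmem : ∀ z : ↥L, z ∈ Subgroup.zpowers (⟨a ^ p ^ u, haL⟩ : ↥L)
      ↔ (z : G) ∈ Subgroup.zpowers a := by
    intro z
    constructor
    · intro hz
      obtain ⟨k, rfl⟩ := Subgroup.mem_zpowers_iff.1 hz
      rw [Subgroup.coe_zpow]
      exact Subgroup.zpow_mem _ (Subgroup.npow_mem_zpowers a _) k
    · intro hz
      obtain ⟨k0, hk0⟩ := Subgroup.mem_zpowers_iff.1 hz
      obtain ⟨k, hk⟩ := exists_nat_pow a k0
      have hzL : a ^ k ∈ L := by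
        rw [← hk, hk0]
        exact z.2
      obtain ⟨c, rfl⟩ := (hu' k).1 hzL
      refine Subgroup.mem_zpowers_iff.2 ⟨c, Subtype.ext ?_⟩
      rw [zpow_natCast, Subgroup.coe_pow, ← hk0, hk, pow_mul]
  have hn' : (Subgroup.zpowers (⟨a ^ p ^ u, haL⟩ : ↥L)).Normal := by
    constructor
    intro n hn g
    rw [hmem] at hn ⊢
    exact h.hnorm.conj_mem _ hn _
  have e1 : 1 + ((1 + d) ^ p ^ v - 1) = (1 + d) ^ p ^ v := by
    have : 0 < (1 + d) ^ p ^ v := pow_pos (by omega) _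
    omega
  have hd' : (⟨a ^ i * b ^ p ^ v, hyL⟩ : ↥L) * ⟨a ^ p ^ u, haL⟩ * (⟨a ^ i * b ^ p ^ v, hyL⟩ : ↥L)⁻¹
      = (⟨a ^ p ^ u, haL⟩ : ↥L) ^ (1 + ((1 + d) ^ p ^ v - 1)) := by
    apply Subtype.ext
    rw [e1]
    show (a ^ i * b ^ p ^ v) * a ^ p ^ u * (a ^ i * b ^ p ^ v)⁻¹ = (a ^ p ^ u) ^ ((1 + d) ^ p ^ v)
    have e2 := conj_pow_pow h.hconj (p ^ v) (p ^ u)
    have e3 := (Commute.refl a).pow_pow i (p ^ u * (1 + d) ^ p ^ v)
    calc (a ^ i * b ^ p ^ v) * a ^ p ^ u * (a ^ i * b ^ p ^ v)⁻¹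
        = a ^ i * (b ^ p ^ v * a ^ p ^ u * (b ^ p ^ v)⁻¹) * (a ^ i)⁻¹ := by group
      _ = a ^ i * a ^ (p ^ u * (1 + d) ^ p ^ v) * (a ^ i)⁻¹ := by rw [e2]
      _ = a ^ (p ^ u * (1 + d) ^ p ^ v) := by
          rw [e3.eq]
          group
      _ = (a ^ p ^ u) ^ ((1 + d) ^ p ^ v) := by rw [pow_mul]
  have hdec' : ∀ g : ↥L, ∃ i' j' : ℕ,
      g = (⟨a ^ p ^ u, haL⟩ : ↥L) ^ i' * (⟨a ^ i * b ^ p ^ v, hyL⟩ : ↥L) ^ j' := by
    intro g
    obtain ⟨s, t, hst⟩ := hdecL g g.2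
    refine ⟨t * (1 + ((1 + d) ^ p ^ v - 1)) ^ s, s, ?_⟩
    rw [← conj_pow_pow hd' s t]
    apply Subtype.ext
    simp only [Subgroup.coe_mul, Subgroup.coe_pow, Subgroup.coe_inv]
    rw [hst]
    group
  have hcomm : IsMulCommutative ↥L ↔ Commute (b ^ p ^ v) (a ^ p ^ u) := by
    constructor
    · intro hL
      have h2 : Commute (a ^ i * b ^ p ^ v) (a ^ p ^ u) := by
        have := hL.is_comm.comm (⟨_, hyL⟩ : L) ⟨_, haL⟩
        exact congrArg Subtype.val this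
      have h3 : Commute ((a ^ i)⁻¹) (a ^ p ^ u) := ((Commute.refl a).pow_pow i (p ^ u)).inv_left
      have := h3.mul_left h2
      simpa using this
    · intro hc
      have h2 : Commute (a ^ i * b ^ p ^ v) (a ^ p ^ u) :=
        ((Commute.refl a).pow_pow i (p ^ u)).mul_left hc
      refine ⟨⟨fun x y => Subtype.ext ?_⟩⟩
      obtain ⟨s1, t1, h1⟩ := hdecL x x.2
      obtain ⟨s2, t2, h2'⟩ := hdecL y y.2
      show (x : G) * y = y * x
      rw [h1, h2']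
      have c1 : Commute ((a ^ i * b ^ p ^ v) ^ s1) ((a ^ i * b ^ p ^ v) ^ s2) :=
        (Commute.refl _).pow_pow _ _
      have c2 : Commute ((a ^ i * b ^ p ^ v) ^ s1) ((a ^ p ^ u) ^ t2) := h2.pow_pow _ _
      have c3 : Commute ((a ^ p ^ u) ^ t1) ((a ^ i * b ^ p ^ v) ^ s2) := (h2.pow_pow _ _).symm
      have c4 : Commute ((a ^ p ^ u) ^ t1) ((a ^ p ^ u) ^ t2) := (Commute.refl _).pow_pow _ _
      exact (Commute.mul_left (Commute.mul_right c1 c2) (Commute.mul_right c3 c4)).eq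
  refine ⟨u, v, hu, hv, hcard, isMetacyclic_of_dec hn' hdec', ?_, ?_⟩
  · rw [hcomm, h.commute_pow_iff hp hp2]
  · intro hna
    have hord : orderOf (⟨a ^ p ^ u, haL⟩ : ↥L) = p ^ (m - u) := by
      rw [Subgroup.orderOf_mk, orderOf_pow, h.ha, Nat.gcd_eq_right (pow_dvd_pow p hu),
        Nat.pow_div hu hp.pos]
    have hpe : p ^ e ∣ d := h.he ▸ Nat.gcd_dvd_right _ _
    have hg : Nat.gcd (p ^ (m - u)) ((1 + d) ^ p ^ v - 1) = p ^ (e + v) := by
      obtain ⟨w, hw, hw'⟩ := (Nat.dvd_prime_pow hp).1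
        (Nat.gcd_dvd_left (p ^ (m - u)) ((1 + d) ^ p ^ v - 1))
      have h1 : p ^ (e + v) ∣ (1 + d) ^ p ^ v - 1 := by
        have := (key_dvd hp hp2 h.hpd (e + v) 1 (p ^ v)).2
          (by rw [one_mul, pow_add]; exact Nat.mul_dvd_mul hpe dvd_rfl)
        rwa [one_mul] at this
      have h2 : p ^ (e + v) ∣ p ^ (m - u) := pow_dvd_pow p (by omega)
      have h3 : p ^ (e + v) ∣ p ^ w := hw' ▸ Nat.dvd_gcd h2 h1
      have h4 : e + v ≤ w := (Nat.pow_dvd_pow_iff_le_right hp.one_lt).1 h3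
      have h5 : p ^ w ∣ (1 + d) ^ p ^ v - 1 := hw' ▸ Nat.gcd_dvd_right _ _
      have h6 : p ^ w ∣ p ^ v * d := by
        have := (key_dvd hp hp2 h.hpd w 1 (p ^ v)).1 (by rwa [one_mul])
        rwa [one_mul, mul_comm] at this
      have h7 : w ≤ v + e := (pow_dvd_pow_mul_iff hp h.he (by omega)).1 h6
      rw [hw']
      congr 1
      omega
    rw [card_commutator_eq hn' hdec' hd', hord, hg, Nat.pow_div (by omega) hp.pos]
    congr 1
    omega

end MC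

end Cfsg.Agent.Lib.Helper68
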