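import Mathlib
import Cfsg.Agent.Lib.Helper68.Metacyclic

/-!
Metacyclic `p`-groups (`p` odd) in coordinates: multiplication and power formulas, class sizes,
power subgroups.
-/

set_option autoImplicit false

namespace Cfsg.Agent.Lib.Helper68

section arith2

theorem pow_dvd_of_dvd_mul_d {p : ℕ} (hp : p.Prime) {m d e : ℕ} (he : Nat.gcd (p ^ m) d = p ^ e)
    {M k : ℕ} (hM : M ≤ m) (h : p ^ M ∣ k * d) : p ^ (M - e) ∣ k := by
  by_cases hMe : M ≤ e
  · rw [Nat.sub_eq_zero_of_le hMe, pow_zero]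
    exact one_dvd _
  push Not at hMe
  have hpe : p ^ e ∣ d := he ▸ Nat.gcd_dvd_right _ _
  obtain ⟨d', rfl⟩ := hpe
  have hd' : ¬ p ∣ d' := by
    intro hh
    have h1 : p ^ (e + 1) ∣ p ^ e * d' := by
      rw [pow_succ]
      exact Nat.mul_dvd_mul_left _ hh
    have h2 : p ^ (e + 1) ∣ p ^ m := pow_dvd_pow p (by omega)
    have h3 : p ^ (e + 1) ∣ p ^ e := he ▸ Nat.dvd_gcd h2 h1
    have := (Nat.pow_dvd_pow_iff_le_right hp.one_lt).1 h3
    omega
  have h1 : p ^ M = p ^ e * p ^ (M - e) := by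
    rw [← pow_add]
    congr 1
    omega
  rw [h1] at h
  have h2 : p ^ e * p ^ (M - e) ∣ p ^ e * (k * d') := by
    have : k * (p ^ e * d') = p ^ e * (k * d') := by ring
    rwa [this] at h
  have h3 : p ^ (M - e) ∣ k * d' := (Nat.mul_dvd_mul_iff_left (pow_pos hp.pos e)).1 h2
  exact (Nat.Coprime.pow_left _ ((Nat.Prime.coprime_iff_not_dvd hp).2 hd')).dvd_of_dvd_mul_right h3

theorem cancel_aux {p : ℕ} (hp : p.Prime) {δ' : ℕ} (hδ : ¬ p ∣ δ') (M f x : ℕ) :
    p ^ (M + f) ∣ x * (p ^ f * δ') ↔ p ^ M ∣ x := by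
  have e1 : x * (p ^ f * δ') = (x * δ') * p ^ f := by ring
  rw [e1, pow_add, Nat.mul_dvd_mul_iff_right (pow_pos hp.pos f)]
  constructor
  · intro h
    exact (Nat.Coprime.pow_left _ ((Nat.Prime.coprime_iff_not_dvd hp).2 hδ)).dvd_of_dvd_mul_right h
  · intro h
    exact Dvd.dvd.mul_right h _

theorem geom_mul (δ t : ℕ) : (∑ q ∈ Finset.range t, (1 + δ) ^ q) * δ + 1 = (1 + δ) ^ t := by
  induction t with
  | zero => simp
  | succ t ih =>
    rw [Finset.sum_range_succ, add_mul, pow_succ]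
    have : (∑ q ∈ Finset.range t, (1 + δ) ^ q) * δ + (1 + δ) ^ t * δ + 1
        = ((∑ q ∈ Finset.range t, (1 + δ) ^ q) * δ + 1) + (1 + δ) ^ t * δ := by ring
    rw [this, ih]
    ring

theorem geom_dvd {p : ℕ} (hp : p.Prime) (hp2 : p ≠ 2) {δ : ℕ} (hδ : p ∣ δ) (M k t : ℕ) :
    p ^ M ∣ k * (∑ q ∈ Finset.range t, (1 + δ) ^ q) ↔ p ^ M ∣ k * t := by
  rcases Nat.eq_zero_or_pos δ with rfl | h0
  · simp
  obtain ⟨f, δ', hδ', hδeq⟩ := Nat.exists_eq_pow_mul_and_not_dvd h0.ne' p hp.ne_one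
  rw [← cancel_aux hp hδ' M f (k * ∑ q ∈ Finset.range t, (1 + δ) ^ q),
    ← cancel_aux hp hδ' M f (k * t), ← hδeq]
  have e1 : k * (∑ q ∈ Finset.range t, (1 + δ) ^ q) * δ = k * ((1 + δ) ^ t - 1) := by
    rw [mul_assoc, ← geom_mul δ t, Nat.add_sub_cancel]
  have e2 : k * t * δ = k * (δ * t) := by ring
  rw [e1, e2]
  exact key_dvd hp hp2 hδ (M + f) k t

end arith2

section general2

variable {G : Type*} [Group G]

theorem mul_formula {a b : G} {d : ℕ} (h : b * a * b⁻¹ = a ^ (1 + d)) (i j k l : ℕ) :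
    (a ^ i * b ^ j) * (a ^ k * b ^ l) = a ^ (i + k * (1 + d) ^ j) * b ^ (j + l) := by
  have h1 := conj_pow_pow h j k
  have h2 : b ^ j * a ^ k = a ^ (k * (1 + d) ^ j) * b ^ j := by
    rw [← h1]
    group
  calc (a ^ i * b ^ j) * (a ^ k * b ^ l) = a ^ i * (b ^ j * a ^ k) * b ^ l := by group
    _ = a ^ i * (a ^ (k * (1 + d) ^ j) * b ^ j) * b ^ l := by rw [h2]
    _ = a ^ (i + k * (1 + d) ^ j) * b ^ (j + l) := by
        rw [pow_add, pow_add]
        group

theorem pow_formula {a b : G} {d : ℕ} (h : b * a * b⁻¹ = a ^ (1 + d)) (i j t : ℕ) :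
    (a ^ i * b ^ j) ^ t
      = a ^ (i * ∑ q ∈ Finset.range t, ((1 + d) ^ j) ^ q) * b ^ (j * t) := by
  induction t with
  | zero => simp
  | succ t ih =>
    rw [pow_succ, ih, mul_formula h, Finset.sum_range_succ]
    have e1 : i * ∑ q ∈ Finset.range t, ((1 + d) ^ j) ^ q + i * (1 + d) ^ (j * t)
        = i * (∑ q ∈ Finset.range t, ((1 + d) ^ j) ^ q + ((1 + d) ^ j) ^ t) := by
      rw [mul_add, pow_mul]
    rw [e1, mul_add j t 1, mul_one]

theorem pow_mul_inv_mem {a : G} {A B q : ℕ} (h : A ≡ B [MOD q]) :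
    a ^ A * (a ^ B)⁻¹ ∈ Subgroup.zpowers (a ^ q) := by
  obtain ⟨c, hc⟩ := (Nat.modEq_iff_dvd.1 h)
  refine Subgroup.mem_zpowers_iff.2 ⟨-c, ?_⟩
  rw [← zpow_natCast a q, ← zpow_mul, ← zpow_natCast a A, ← zpow_natCast a B, ← zpow_neg,
    ← zpow_add]
  congr 1
  linarith

theorem index_centralizer_le_card [Finite G] (g : G) (M : Subgroup G)
    (hM : ∀ x : G, x * g * x⁻¹ * g⁻¹ ∈ M) :
    (Subgroup.centralizer ({g} : Set G)).index ≤ Nat.card M := by
  rw [Subgroup.index_eq_card]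
  have hwd : ∀ x y : G, x⁻¹ * y ∈ Subgroup.centralizer ({g} : Set G) ↔ x * g * x⁻¹ = y * g * y⁻¹ := by
    intro x y
    rw [Subgroup.mem_centralizer_iff]
    constructor
    · intro hh
      have h1 := hh g rfl
      calc x * g * x⁻¹ = x * (g * (x⁻¹ * y)) * y⁻¹ * 1 := by group
        _ = x * ((x⁻¹ * y) * g) * y⁻¹ * 1 := by rw [h1]
        _ = y * g * y⁻¹ := by group
    · intro hh z hz
      rw [Set.mem_singleton_iff] at hz
      rw [hz]
      calc g * (x⁻¹ * y) = x⁻¹ * (x * g * x⁻¹) * y := by group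
        _ = x⁻¹ * (y * g * y⁻¹) * y := by rw [hh]
        _ = x⁻¹ * y * g := by group
  let f : G ⧸ Subgroup.centralizer ({g} : Set G) → M := fun q =>
    Quotient.liftOn' q (fun x => (⟨x * g * x⁻¹ * g⁻¹, hM x⟩ : M)) (by
      intro x y hxy
      rw [QuotientGroup.leftRel_apply] at hxy
      apply Subtype.ext
      show x * g * x⁻¹ * g⁻¹ = y * g * y⁻¹ * g⁻¹
      rw [(hwd x y).1 hxy])
  apply Nat.card_le_card_of_injective f
  intro q1 q2
  induction q1 using QuotientGroup.induction_on with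
  | H x =>
    induction q2 using QuotientGroup.induction_on with
    | H y =>
      intro hxy
      have h1 : x * g * x⁻¹ * g⁻¹ = y * g * y⁻¹ * g⁻¹ := congrArg Subtype.val hxy
      have h2 : x * g * x⁻¹ = y * g * y⁻¹ := mul_right_cancel h1
      exact QuotientGroup.eq.2 ((hwd x y).2 h2)

end general2

namespace MC

variable {G : Type*} [Group G] [Finite G] {p : ℕ} {a b : G} {m J d e : ℕ}

/-- class sizes: the centralizer of `a ^ i * b ^ j` has index at most `p ^ (n - s)`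
(`p ^ n = |G'|`) iff `p ^ s` divides `i` and `j`. -/
theorem index_centralizer_le_iff (h : MC p a b m J d e) (hp : p.Prime) (hp2 : p ≠ 2) {s : ℕ}
    (hs : s ≤ m - e) (i j : ℕ) :
    (Subgroup.centralizer ({a ^ i * b ^ j} : Set G)).index ≤ p ^ (m - e - s)
      ↔ p ^ s ∣ i ∧ p ^ s ∣ j := by
  have hpe : p ^ e ∣ d := h.he ▸ Nat.gcd_dvd_right _ _
  have hem := h.e_le hp
  constructor
  · intro hle
    obtain ⟨u, v, i0, hu, hv, hu', hxC, _, hcard, _⟩ :=
      h.sub_coords hp (Subgroup.centralizer ({a ^ i * b ^ j} : Set G))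
    have hidx : (Subgroup.centralizer ({a ^ i * b ^ j} : Set G)).index = p ^ (u + v) := by
      have h1 := Subgroup.card_mul_index (Subgroup.centralizer ({a ^ i * b ^ j} : Set G))
      rw [hcard, h.hcard] at h1
      have h2 : p ^ (m - u) * p ^ (J - v) * p ^ (u + v) = p ^ m * p ^ J := by
        simp only [← pow_add]
        congr 1
        omega
      exact Nat.eq_of_mul_eq_mul_left (Nat.mul_pos (pow_pos hp.pos _) (pow_pos hp.pos _))
        (h1.trans h2.symm)
    rw [hidx, Nat.pow_le_pow_iff_right hp.one_lt] at hle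
    have hcg : ∀ x ∈ Subgroup.centralizer ({a ^ i * b ^ j} : Set G),
        Commute x (a ^ i * b ^ j) := by
      intro x hx
      rw [Subgroup.mem_centralizer_iff] at hx
      exact (hx _ rfl).symm
    have h1 : Commute (a ^ p ^ u) (a ^ i * b ^ j) := hcg _ ((hu' _).2 dvd_rfl)
    have h2 : Commute (b ^ j) (a ^ p ^ u) := by
      have h3 : Commute ((a ^ i)⁻¹) (a ^ p ^ u) := ((Commute.refl a).pow_pow i (p ^ u)).inv_left
      have := h3.mul_left h1.symm
      simpa using this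
    have h4 : p ^ m ∣ p ^ u * (d * j) := (h.commute_iff hp hp2 j (p ^ u)).1 h2
    have h5 : p ^ (m - u) ∣ d * j := by
      have : p ^ m = p ^ u * p ^ (m - u) := by
        rw [← pow_add]
        congr 1
        omega
      rw [this] at h4
      exact (Nat.mul_dvd_mul_iff_left (pow_pos hp.pos u)).1 h4
    have h6 : p ^ (m - u - e) ∣ j :=
      pow_dvd_of_dvd_mul_d hp h.he (by omega) (by rwa [mul_comm] at h5)
    have h7 : Commute (a ^ i0 * b ^ p ^ v) (a ^ i * b ^ j) := hcg _ hxC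
    have h8 := h7.eq
    rw [mul_formula h.hconj, mul_formula h.hconj, add_comm j (p ^ v)] at h8
    have h9 : a ^ (i0 + i * (1 + d) ^ p ^ v) = a ^ (i + i0 * (1 + d) ^ j) := mul_right_cancel h8
    rw [pow_eq_pow_iff_modEq, h.ha] at h9
    have h10 : i0 + i * (1 + d) ^ p ^ v ≡ i + i0 * (1 + d) ^ j [MOD p ^ (m - u)] :=
      Nat.ModEq.of_dvd (pow_dvd_pow p (Nat.sub_le m u)) h9
    have h11 : i0 * (1 + d) ^ j ≡ i0 [MOD p ^ (m - u)] := by
      have hle' : i0 ≤ i0 * (1 + d) ^ j := Nat.le_mul_of_pos_right i0 (pow_pos (by omega) j)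
      rw [Nat.ModEq.comm, Nat.modEq_iff_dvd' hle', ← Nat.mul_sub_one, key_dvd hp hp2 h.hpd]
      exact Dvd.dvd.mul_left h5 i0
    have h12 : i0 + i * (1 + d) ^ p ^ v ≡ i0 + i [MOD p ^ (m - u)] := by
      have := h10.trans (Nat.ModEq.add_left i h11)
      rwa [add_comm i i0] at this
    have h13 : i * (1 + d) ^ p ^ v ≡ i [MOD p ^ (m - u)] := Nat.ModEq.add_left_cancel' i0 h12
    have h14 : p ^ (m - u) ∣ i * (d * p ^ v) := by
      have hle' : i ≤ i * (1 + d) ^ p ^ v := Nat.le_mul_of_pos_right i (pow_pos (by omega) _)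
      rw [Nat.ModEq.comm, Nat.modEq_iff_dvd' hle', ← Nat.mul_sub_one,
        key_dvd hp hp2 h.hpd] at h13
      exact h13
    have h15 : p ^ (m - u - e) ∣ i * p ^ v := pow_dvd_of_dvd_mul_d hp h.he (by omega) (by
      have : i * (d * p ^ v) = i * p ^ v * d := by ring
      rwa [this] at h14)
    have h16 : p ^ (m - u - e - v) ∣ i := by
      have : p ^ (m - u - e) = p ^ (m - u - e - v) * p ^ v := by
        rw [← pow_add]
        congr 1
        omega
      rw [this] at h15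
      exact (Nat.mul_dvd_mul_iff_right (pow_pos hp.pos v)).1 h15
    exact ⟨(pow_dvd_pow p (by omega)).trans h16, (pow_dvd_pow p (by omega)).trans h6⟩
  · rintro ⟨hi, hj⟩
    have hM : ∀ x : G, x * (a ^ i * b ^ j) * x⁻¹ * (a ^ i * b ^ j)⁻¹
        ∈ Subgroup.zpowers (a ^ p ^ (e + s)) := by
      intro x
      obtain ⟨k, l, rfl⟩ := h.hdec x
      have e1 : (a ^ k * b ^ l) * (a ^ i * b ^ j) * (a ^ k * b ^ l)⁻¹ * (a ^ i * b ^ j)⁻¹
          = ((a ^ k * b ^ l) * (a ^ i * b ^ j)) * ((a ^ i * b ^ j) * (a ^ k * b ^ l))⁻¹ := by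
        group
      rw [e1, mul_formula h.hconj, mul_formula h.hconj, add_comm j l]
      have e2 : a ^ (k + i * (1 + d) ^ l) * b ^ (l + j)
          * (a ^ (i + k * (1 + d) ^ j) * b ^ (l + j))⁻¹
          = a ^ (k + i * (1 + d) ^ l) * (a ^ (i + k * (1 + d) ^ j))⁻¹ := by group
      rw [e2]
      apply pow_mul_inv_mem
      have c1 : i * (1 + d) ^ l ≡ i [MOD p ^ (e + s)] := by
        have hle' : i ≤ i * (1 + d) ^ l := Nat.le_mul_of_pos_right i (pow_pos (by omega) l)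
        rw [Nat.ModEq.comm, Nat.modEq_iff_dvd' hle', ← Nat.mul_sub_one, key_dvd hp hp2 h.hpd,
          pow_add, ← mul_assoc]
        exact Dvd.dvd.mul_right (by rw [mul_comm (p ^ e)]; exact Nat.mul_dvd_mul hi hpe) l
      have c2 : k * (1 + d) ^ j ≡ k [MOD p ^ (e + s)] := by
        have hle' : k ≤ k * (1 + d) ^ j := Nat.le_mul_of_pos_right k (pow_pos (by omega) j)
        rw [Nat.ModEq.comm, Nat.modEq_iff_dvd' hle', ← Nat.mul_sub_one, key_dvd hp hp2 h.hpd,
          pow_add]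
        exact Dvd.dvd.mul_left (Nat.mul_dvd_mul hpe hj) k
      calc k + i * (1 + d) ^ l ≡ k + i [MOD p ^ (e + s)] := Nat.ModEq.add_left k c1
        _ ≡ i + k * (1 + d) ^ j [MOD p ^ (e + s)] := by
            rw [add_comm k i]
            exact (Nat.ModEq.add_left i c2).symm
    have := index_centralizer_le_card (a ^ i * b ^ j) _ hM
    rw [Nat.card_zpowers, orderOf_pow, h.ha, Nat.gcd_eq_right (pow_dvd_pow p (by omega)),
      Nat.pow_div (by omega) hp.pos] at this
    have e3 : m - (e + s) = m - e - s := by omega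
    rwa [e3] at this

/-- the subgroup generated by the `p ^ s`-th powers. -/
theorem mem_closure_pow_iff (h : MC p a b m J d e) (hp : p.Prime) (hp2 : p ≠ 2) (s : ℕ) (g : G) :
    g ∈ Subgroup.closure {x : G | ∃ y : G, y ^ p ^ s = x}
      ↔ ∃ i j : ℕ, g = a ^ (p ^ s * i) * b ^ (p ^ s * j) := by
  constructor
  · intro hg
    have hmul : ∀ x y : G, (∃ i j : ℕ, x = a ^ (p ^ s * i) * b ^ (p ^ s * j)) →
        (∃ i j : ℕ, y = a ^ (p ^ s * i) * b ^ (p ^ s * j)) →
        ∃ i j : ℕ, x * y = a ^ (p ^ s * i) * b ^ (p ^ s * j) := by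
      rintro _ _ ⟨i, j, rfl⟩ ⟨k, l, rfl⟩
      refine ⟨i + k * (1 + d) ^ (p ^ s * j), j + l, ?_⟩
      rw [mul_formula h.hconj, mul_add, mul_add, mul_assoc]
    have hone : ∃ i j : ℕ, (1 : G) = a ^ (p ^ s * i) * b ^ (p ^ s * j) := ⟨0, 0, by simp⟩
    have hpow : ∀ (x : G) (t : ℕ), (∃ i j : ℕ, x = a ^ (p ^ s * i) * b ^ (p ^ s * j)) →
        ∃ i j : ℕ, x ^ t = a ^ (p ^ s * i) * b ^ (p ^ s * j) := by
      intro x t hx
      induction t with
      | zero => simpa using hone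
      | succ t ih =>
        rw [pow_succ]
        exact hmul _ _ ih hx
    induction hg using Subgroup.closure_induction with
    | mem x hx =>
      obtain ⟨y, rfl⟩ := hx
      obtain ⟨i, j, rfl⟩ := h.hdec y
      rw [pow_formula h.hconj]
      have hδ : p ∣ (1 + d) ^ j - 1 := by
        have := (key_dvd hp hp2 h.hpd 1 1 j).2
          (by rw [pow_one, one_mul]; exact Dvd.dvd.mul_right h.hpd j)
        rwa [pow_one, one_mul] at this
      have hρ : 1 + ((1 + d) ^ j - 1) = (1 + d) ^ j := by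
        have : 0 < (1 + d) ^ j := pow_pos (by omega) _
        omega
      have key := geom_dvd hp hp2 hδ s i (p ^ s)
      rw [hρ] at key
      obtain ⟨c, hc⟩ := key.2 (Dvd.intro_left i rfl)
      exact ⟨c, j, by rw [hc, mul_comm j]⟩
    | one => exact hone
    | mul x y _ _ hx hy => exact hmul x y hx hy
    | inv x _ hx =>
      have : x⁻¹ = x ^ (orderOf x - 1) := by
        apply inv_eq_of_mul_eq_one_right
        rw [← pow_succ', Nat.sub_add_cancel (orderOf_pos x), pow_orderOf_eq_one]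
      rw [this]
      exact hpow x _ hx
  · rintro ⟨i, j, rfl⟩
    apply Subgroup.mul_mem
    · exact Subgroup.subset_closure ⟨a ^ i, by rw [← pow_mul, mul_comm]⟩
    · exact Subgroup.subset_closure ⟨b ^ j, by rw [← pow_mul, mul_comm]⟩

theorem card_closure_pow (h : MC p a b m J d e) (hp : p.Prime) (hp2 : p ≠ 2) {s : ℕ}
    (hs : s ≤ m - e) :
    Nat.card (Subgroup.closure {x : G | ∃ y : G, y ^ p ^ s = x}) = p ^ (m - s) * p ^ (J - s) := by
  obtain ⟨u, v, i0, hu, hv, hu', hxH, _, hcard, hv'⟩ :=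
    h.sub_coords hp (Subgroup.closure {x : G | ∃ y : G, y ^ p ^ s = x})
  have hdiv : ∀ i j : ℕ, a ^ i * b ^ j ∈ Subgroup.closure {x : G | ∃ y : G, y ^ p ^ s = x} →
      p ^ s ∣ i ∧ p ^ s ∣ j := by
    intro i j hij
    obtain ⟨i', j', hij'⟩ := (h.mem_closure_pow_iff hp hp2 s _).1 hij
    rw [← h.index_centralizer_le_iff hp hp2 hs, hij', h.index_centralizer_le_iff hp hp2 hs]
    exact ⟨Dvd.intro _ rfl, Dvd.intro _ rfl⟩
  have hus : u = s := by
    apply le_antisymm
    · have h1 : a ^ p ^ s ∈ Subgroup.closure {x : G | ∃ y : G, y ^ p ^ s = x} :=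
        Subgroup.subset_closure ⟨a, rfl⟩
      exact (Nat.pow_dvd_pow_iff_le_right hp.one_lt).1 ((hu' _).1 h1)
    · have h1 : a ^ p ^ u * b ^ 0 ∈ Subgroup.closure {x : G | ∃ y : G, y ^ p ^ s = x} := by
        simpa using (hu' (p ^ u)).2 dvd_rfl
      exact (Nat.pow_dvd_pow_iff_le_right hp.one_lt).1 (hdiv _ _ h1).1
  have hvs : v = s := by
    apply le_antisymm
    · have h1 : a ^ 0 * b ^ p ^ s ∈ Subgroup.closure {x : G | ∃ y : G, y ^ p ^ s = x} := by
        simpa using Subgroup.subset_closure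
          (show b ^ p ^ s ∈ {x : G | ∃ y : G, y ^ p ^ s = x} from ⟨b, rfl⟩)
      exact (Nat.pow_dvd_pow_iff_le_right hp.one_lt).1 (hv' _ _ h1)
    · exact (Nat.pow_dvd_pow_iff_le_right hp.one_lt).1 (hdiv _ _ hxH).2
  rw [hcard, hus, hvs]

end MC

end Cfsg.Agent.Lib.Helper68
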