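import Mathlib

set_option autoImplicit false

/-!
Subgroups of `GL₂(ℤ/2ᵏ)` isomorphic to the alternating group of degree four are conjugate:
every element of order three is conjugate to the companion matrix `X0` of `t² + t + 1`, and for a
copy of `A₄` containing `X0` the normal four-group is forced by a ring computation.
-/

namespace Cfsg.Agent.Lib.Helper68.A4GL2

open Matrix

section Ring

variable {R : Type*} [CommRing R]

omit [CommRing R] in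
theorem mat2_eq_iff (a b c d a' b' c' d' : R) :
    (!![a, b; c, d] : Matrix (Fin 2) (Fin 2) R) = !![a', b'; c', d'] ↔
      a = a' ∧ b = b' ∧ c = c' ∧ d = d' := by
  constructor
  · intro h
    refine ⟨?_, ?_, ?_, ?_⟩
    · simpa using congrFun (congrFun h 0) 0
    · simpa using congrFun (congrFun h 0) 1
    · simpa using congrFun (congrFun h 1) 0
    · simpa using congrFun (congrFun h 1) 1
  · rintro ⟨rfl, rfl, rfl, rfl⟩
    rfl

/-- the companion matrix of `t ^ 2 + t + 1` -/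
def X0 (R : Type*) [CommRing R] : Matrix (Fin 2) (Fin 2) R := !![0, -1; 1, -1]

/-- its inverse -/
def X0i (R : Type*) [CommRing R] : Matrix (Fin 2) (Fin 2) R := !![-1, 1; -1, 0]

theorem X0_mul_X0i : X0 R * X0i R = 1 := by
  rw [X0, X0i, Matrix.mul_fin_two, Matrix.one_fin_two, mat2_eq_iff]
  refine ⟨by ring, by ring, by ring, by ring⟩

theorem X0i_mul_X0 : X0i R * X0 R = 1 := by
  rw [X0, X0i, Matrix.mul_fin_two, Matrix.one_fin_two, mat2_eq_iff]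
  refine ⟨by ring, by ring, by ring, by ring⟩

/-- the companion matrix as an element of `GL₂` -/
def x0 (R : Type*) [CommRing R] : GL (Fin 2) R := ⟨X0 R, X0i R, X0_mul_X0i, X0i_mul_X0⟩

/-- the ring computation: an involution `V` with `V * (X0 V X0⁻¹) = X0⁻¹ V X0`. -/
theorem core (V : Matrix (Fin 2) (Fin 2) R) (h1 : V * V = 1)
    (h2 : V * (X0 R * V * X0i R) = X0i R * V * X0 R) :
    V 0 0 + V 1 1 = 2 ∧ V 1 0 = V 0 1 - V 1 1 + 1 ∧ 2 * V 0 1 = 0 ∧ 2 * (V 1 1 - 1) = 0 := by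
  obtain ⟨p, hp⟩ : ∃ p, p = V 0 0 := ⟨_, rfl⟩
  obtain ⟨q, hq⟩ : ∃ q, q = V 0 1 := ⟨_, rfl⟩
  obtain ⟨r, hr⟩ : ∃ r, r = V 1 0 := ⟨_, rfl⟩
  obtain ⟨s, hs⟩ : ∃ s, s = V 1 1 := ⟨_, rfl⟩
  have hV : V = !![p, q; r, s] := by
    rw [hp, hq, hr, hs]; exact Matrix.eta_fin_two V
  rw [← hp, ← hq, ← hr, ← hs]
  rw [hV, Matrix.mul_fin_two, Matrix.one_fin_two, mat2_eq_iff] at h1
  rw [hV, X0, X0i, Matrix.mul_fin_two, Matrix.mul_fin_two, Matrix.mul_fin_two,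
    Matrix.mul_fin_two, Matrix.mul_fin_two, mat2_eq_iff] at h2
  obtain ⟨e1, e2, e3, e4⟩ := h1
  obtain ⟨e5, e6, e7, e8⟩ := h2
  refine ⟨?_, ?_, ?_, ?_⟩ <;> grind

theorem sq_step (c : R) (Z : Matrix (Fin 2) (Fin 2) R) :
    (1 + c • Z) * (1 + c • Z) = 1 + (2 * c) • Z + (c * c) • (Z * Z) := by
  rw [add_mul, mul_add, mul_add, one_mul, mul_one, one_mul, Matrix.smul_mul, Matrix.mul_smul,
    smul_smul, two_mul, add_smul]
  abel

end Ring

section ZM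

theorem two_pow_eq_zero (k : ℕ) : (2 : ZMod (2 ^ k)) ^ k = 0 := by
  have := ZMod.natCast_self (2 ^ k)
  push_cast at this
  exact this

/-- reduction modulo two -/
def red (k : ℕ) (hk : k ≠ 0) : ZMod (2 ^ k) →+* ZMod 2 :=
  ZMod.castHom (dvd_pow_self 2 hk) (ZMod 2)

theorem exists_eq_two_mul {k : ℕ} (hk : k ≠ 0) (r : ZMod (2 ^ k)) (hr : red k hk r = 0) :
    ∃ r' : ZMod (2 ^ k), r = 2 * r' := by
  have : NeZero (2 ^ k) := ⟨by positivity⟩
  rw [red, ZMod.castHom_apply, ← ZMod.natCast_val, ZMod.natCast_eq_zero_iff] at hr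
  obtain ⟨m, hm⟩ := hr
  refine ⟨(m : ZMod (2 ^ k)), ?_⟩
  have h1 : ((r.val : ℕ) : ZMod (2 ^ k)) = r := ZMod.natCast_zmod_val r
  rw [← h1, hm]
  push_cast
  ring

theorem isUnit_one_add_two_mul (k : ℕ) (r : ZMod (2 ^ k)) : IsUnit (1 + 2 * r) := by
  apply IsNilpotent.isUnit_one_add
  refine ⟨k, ?_⟩
  rw [mul_pow, two_pow_eq_zero, zero_mul]

theorem isUnit_of_red_eq_one {k : ℕ} (hk : k ≠ 0) (r : ZMod (2 ^ k)) (hr : red k hk r = 1) :
    IsUnit r := by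
  have h1 : red k hk (r - 1) = 0 := by rw [map_sub, hr, map_one, sub_self]
  obtain ⟨r', hr'⟩ := exists_eq_two_mul hk (r - 1) h1
  have : r = 1 + 2 * r' := by rw [← hr']; ring
  rw [this]
  exact isUnit_one_add_two_mul k r'

/-- the element `2 ^ (k - 1)` -/
def hh (k : ℕ) : ZMod (2 ^ k) := 2 ^ (k - 1)

theorem two_mul_hh {k : ℕ} (hk : 1 ≤ k) : 2 * hh k = 0 := by
  rw [hh, ← pow_succ']
  have : k - 1 + 1 = k := by omega
  rw [this, two_pow_eq_zero]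

theorem hh_mul_hh {k : ℕ} (hk : 2 ≤ k) : hh k * hh k = 0 := by
  rw [hh, ← pow_add]
  have : k - 1 + (k - 1) = k + (k - 2) := by omega
  rw [this, pow_add, two_pow_eq_zero, zero_mul]

theorem eq_zero_or_eq_hh {k : ℕ} (hk : 1 ≤ k) (c : ZMod (2 ^ k)) (hc : 2 * c = 0) :
    c = 0 ∨ c = hh k := by
  have : NeZero (2 ^ k) := ⟨by positivity⟩
  have h1 : ((c.val : ℕ) : ZMod (2 ^ k)) = c := ZMod.natCast_zmod_val c
  have h2 : ((2 * c.val : ℕ) : ZMod (2 ^ k)) = 0 := by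
    push_cast; rw [h1]; exact hc
  rw [ZMod.natCast_eq_zero_iff] at h2
  have e : 2 ^ k = 2 * 2 ^ (k - 1) := by
    rw [← pow_succ']; congr 1; omega
  have h3 : 2 ^ (k - 1) ∣ c.val := by
    have h2' : 2 * 2 ^ (k - 1) ∣ 2 * c.val := by rw [← e]; exact h2
    exact Nat.dvd_of_mul_dvd_mul_left (by norm_num) h2'
  obtain ⟨m, hm⟩ := h3
  have hlt : c.val < 2 ^ k := ZMod.val_lt c
  have hm2 : m < 2 := by
    by_contra hcon
    push Not at hcon
    have : 2 ^ (k - 1) * 2 ≤ 2 ^ (k - 1) * m := Nat.mul_le_mul_left _ hcon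
    omega
  interval_cases m
  · left
    rw [← h1, hm]; simp
  · right
    rw [← h1, hm, hh]; push_cast; ring

end ZM

section Order3

theorem mod2_cases : ∀ Y : Matrix (Fin 2) (Fin 2) (ZMod 2), Y ^ 3 = 1 →
    Y = 1 ∨ (Y 1 0 = 1 ∧ (Y 0 0 - 1) * (Y 1 1 - 1) - Y 0 1 * Y 1 0 = 1) := by decide

theorem eq_one_of_congr {k : ℕ} (hk : k ≠ 0) (X Y : Matrix (Fin 2) (Fin 2) (ZMod (2 ^ k)))
    (hX3 : X ^ 3 = 1) (hXY : X = 1 + (2 : ZMod (2 ^ k)) • Y) : X = 1 := by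
  have key : ∀ j : ℕ, ∃ Z : Matrix (Fin 2) (Fin 2) (ZMod (2 ^ k)),
      X ^ (2 ^ j) = 1 + ((2 : ZMod (2 ^ k)) ^ (j + 1)) • Z := by
    intro j
    induction j with
    | zero => exact ⟨Y, by simpa using hXY⟩
    | succ j ih =>
      obtain ⟨Z, hZ⟩ := ih
      refine ⟨Z + (2 : ZMod (2 ^ k)) ^ j • (Z * Z), ?_⟩
      have e1 : (2 : ZMod (2 ^ k)) * 2 ^ (j + 1) = 2 ^ (j + 1 + 1) := by ring
      have e2 : (2 : ZMod (2 ^ k)) ^ (j + 1) * 2 ^ (j + 1) = 2 ^ (j + 1 + 1) * 2 ^ j := by ring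
      rw [pow_succ (2 : ℕ) j, pow_mul, hZ, pow_two, sq_step, smul_add, smul_smul, add_assoc,
        e1, e2]
  obtain ⟨Z, hZ⟩ := key (k - 1)
  have hk1 : k - 1 + 1 = k := by omega
  rw [hk1, two_pow_eq_zero, zero_smul, add_zero] at hZ
  have h1 : orderOf X ∣ 2 ^ (k - 1) := orderOf_dvd_of_pow_eq_one hZ
  have h2 : orderOf X ∣ 3 := orderOf_dvd_of_pow_eq_one hX3
  have h3 : orderOf X ∣ Nat.gcd (2 ^ (k - 1)) 3 := Nat.dvd_gcd h1 h2
  have h4 : Nat.gcd (2 ^ (k - 1)) 3 = 1 := Nat.Coprime.pow_left _ (by norm_num)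
  rw [h4, Nat.dvd_one] at h3
  exact orderOf_eq_one_iff.mp h3

/-- every element of order three of `GL₂(ℤ/2ᵏ)` is conjugate to the companion matrix. -/
theorem exists_conj_x0 {k : ℕ} (hk : k ≠ 0) (x : GL (Fin 2) (ZMod (2 ^ k))) (hx3 : x ^ 3 = 1)
    (hx1 : x ≠ 1) : ∃ g : GL (Fin 2) (ZMod (2 ^ k)), g * x * g⁻¹ = x0 (ZMod (2 ^ k)) := by
  obtain ⟨X, hXdef⟩ : ∃ X : Matrix (Fin 2) (Fin 2) (ZMod (2 ^ k)), X = (x : Matrix _ _ _) :=
    ⟨_, rfl⟩
  have hX3 : X ^ 3 = 1 := by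
    rw [hXdef, ← Units.val_pow_eq_pow_val, hx3, Units.val_one]
  have hX1 : X ≠ 1 := by
    intro h
    apply hx1
    apply Units.ext
    rw [← hXdef, h, Units.val_one]
  obtain ⟨a, ha⟩ : ∃ a, a = X 0 0 := ⟨_, rfl⟩
  obtain ⟨b, hb⟩ : ∃ b, b = X 0 1 := ⟨_, rfl⟩
  obtain ⟨c, hc⟩ : ∃ c, c = X 1 0 := ⟨_, rfl⟩
  obtain ⟨d, hd⟩ : ∃ d, d = X 1 1 := ⟨_, rfl⟩
  have hXe : X = !![a, b; c, d] := by
    rw [ha, hb, hc, hd]; exact Matrix.eta_fin_two X
  have hY3 : ((red k hk).mapMatrix X) ^ 3 = 1 := by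
    rw [← map_pow, hX3, map_one]
  have hYe : ∀ i j, (red k hk).mapMatrix X i j = red k hk (X i j) := fun i j => rfl
  rcases mod2_cases _ hY3 with hY1 | ⟨hYc, hYdet⟩
  · exfalso
    apply hX1
    have e00 : red k hk (a - 1) = 0 := by
      have := congrFun (congrFun hY1 0) 0
      rw [hYe, ← ha] at this
      rw [map_sub, this, map_one]; simp
    have e01 : red k hk b = 0 := by
      have := congrFun (congrFun hY1 0) 1
      rw [hYe, ← hb] at this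
      rw [this]; simp
    have e10 : red k hk c = 0 := by
      have := congrFun (congrFun hY1 1) 0
      rw [hYe, ← hc] at this
      rw [this]; simp
    have e11 : red k hk (d - 1) = 0 := by
      have := congrFun (congrFun hY1 1) 1
      rw [hYe, ← hd] at this
      rw [map_sub, this, map_one]; simp
    obtain ⟨a', ha'⟩ := exists_eq_two_mul hk _ e00
    obtain ⟨b', hb'⟩ := exists_eq_two_mul hk _ e01
    obtain ⟨c', hc'⟩ := exists_eq_two_mul hk _ e10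
    obtain ⟨d', hd'⟩ := exists_eq_two_mul hk _ e11
    apply eq_one_of_congr hk X !![a', b'; c', d'] hX3
    rw [hXe, Matrix.smul_of, Matrix.one_fin_two]
    simp only [Matrix.smul_cons, Matrix.smul_empty, smul_eq_mul]
    rw [Matrix.of_add_of]
    simp only [Matrix.cons_add_cons, Matrix.empty_add_empty]
    rw [mat2_eq_iff]
    refine ⟨?_, ?_, ?_, ?_⟩
    · linear_combination ha'
    · linear_combination hb'
    · linear_combination hc'
    · linear_combination hd'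
  · have hcu : IsUnit c := by
      apply isUnit_of_red_eq_one hk c
      rw [hYe, ← hc] at hYc
      exact hYc
    have hδu : IsUnit ((a - 1) * (d - 1) - b * c) := by
      apply isUnit_of_red_eq_one hk
      rw [hYe, hYe, hYe, hYe, ← ha, ← hb, ← hc, ← hd] at hYdet
      rw [map_sub, map_mul, map_mul, map_sub, map_sub, map_one]
      exact hYdet
    rw [hXe, pow_three, Matrix.mul_fin_two, Matrix.mul_fin_two, Matrix.one_fin_two,
      mat2_eq_iff] at hX3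
    obtain ⟨e1, e2, e3, e4⟩ := hX3
    have hn00 : a * a + b * c + a + 1 = 0 := by
      have : ((a - 1) * (d - 1) - b * c) * (a * a + b * c + a + 1) = 0 := by grind
      exact (hδu.mul_right_eq_zero).mp this
    have hn10 : c * a + d * c + c = 0 := by
      have : ((a - 1) * (d - 1) - b * c) * (c * a + d * c + c) = 0 := by grind
      exact (hδu.mul_right_eq_zero).mp this
    obtain ⟨ci, hci⟩ : ∃ ci, c * ci = 1 := ⟨_, hcu.mul_val_inv⟩
    have hG1 : (!![1, a; 0, c] : Matrix (Fin 2) (Fin 2) (ZMod (2 ^ k))) * !![1, -a * ci; 0, ci]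
        = 1 := by
      rw [Matrix.mul_fin_two, Matrix.one_fin_two, mat2_eq_iff]
      refine ⟨by ring, by ring, by ring, ?_⟩
      linear_combination hci
    have hG2 : (!![1, -a * ci; 0, ci] : Matrix (Fin 2) (Fin 2) (ZMod (2 ^ k))) * !![1, a; 0, c]
        = 1 := by
      rw [Matrix.mul_fin_two, Matrix.one_fin_two, mat2_eq_iff]
      refine ⟨by ring, ?_, by ring, ?_⟩
      · linear_combination (-a) * hci
      · linear_combination hci
    obtain ⟨g', hg'⟩ : ∃ g' : GL (Fin 2) (ZMod (2 ^ k)),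
        (g' : Matrix (Fin 2) (Fin 2) (ZMod (2 ^ k))) = !![1, a; 0, c] :=
      ⟨⟨!![1, a; 0, c], !![1, -a * ci; 0, ci], hG1, hG2⟩, rfl⟩
    have hcomm : x * g' = g' * x0 (ZMod (2 ^ k)) := by
      apply Units.ext
      rw [Units.val_mul, Units.val_mul, hg', ← hXdef, hXe]
      show !![a, b; c, d] * !![1, a; 0, c] = !![1, a; 0, c] * X0 (ZMod (2 ^ k))
      rw [X0, Matrix.mul_fin_two, Matrix.mul_fin_two, mat2_eq_iff]
      refine ⟨by ring, ?_, by ring, ?_⟩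
      · linear_combination hn00
      · linear_combination hn10
    refine ⟨g'⁻¹, ?_⟩
    rw [inv_inv, mul_assoc, hcomm, ← mul_assoc, inv_mul_cancel, one_mul]

end Order3

section A4

/-- a three-cycle -/
def c4 : alternatingGroup (Fin 4) := ⟨Equiv.swap 0 1 * Equiv.swap 1 2, by
  rw [Equiv.Perm.mem_alternatingGroup, Equiv.Perm.sign_mul, Equiv.Perm.sign_swap (by decide),
    Equiv.Perm.sign_swap (by decide)]; rfl⟩

/-- a double transposition -/
def t4 : alternatingGroup (Fin 4) := ⟨Equiv.swap 0 1 * Equiv.swap 2 3, by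
  rw [Equiv.Perm.mem_alternatingGroup, Equiv.Perm.sign_mul, Equiv.Perm.sign_swap (by decide),
    Equiv.Perm.sign_swap (by decide)]; rfl⟩

theorem c4_pow : c4 ^ 3 = 1 := by decide
theorem c4_ne : c4 ≠ 1 := by decide
theorem t4_sq : t4 * t4 = 1 := by decide
theorem t4_ne : t4 ≠ 1 := by decide
theorem rel4 : t4 * (c4 * t4 * c4⁻¹) = c4⁻¹ * t4 * c4 := by decide
theorem gen4 : ∀ g : alternatingGroup (Fin 4), ∃ (i : Fin 3) (j l : Fin 2),
    g = c4 ^ (i : ℕ) * t4 ^ (j : ℕ) * (c4 * t4 * c4⁻¹) ^ (l : ℕ) := by decide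

end A4

section Main

variable {k : ℕ}

/-- the standard involution -/
def V1 (k : ℕ) : Matrix (Fin 2) (Fin 2) (ZMod (2 ^ k)) := !![1, hh k; hh k, 1]

theorem V1_mul_V1 (hk : 2 ≤ k) : V1 k * V1 k = 1 := by
  rw [V1, Matrix.mul_fin_two, Matrix.one_fin_two, mat2_eq_iff]
  have h1 := two_mul_hh (k := k) (by omega)
  have h2 := hh_mul_hh hk
  refine ⟨?_, ?_, ?_, ?_⟩
  · linear_combination h2
  · linear_combination h1
  · linear_combination h1
  · linear_combination h2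

/-- the standard involution as an element of `GL₂` -/
def v1 (hk : 2 ≤ k) : GL (Fin 2) (ZMod (2 ^ k)) := ⟨V1 k, V1 k, V1_mul_V1 hk, V1_mul_V1 hk⟩

/-- the standard copy of `A₄` -/
def H0 (hk : 2 ≤ k) : Subgroup (GL (Fin 2) (ZMod (2 ^ k))) :=
  Subgroup.closure {x0 (ZMod (2 ^ k)), v1 hk}

theorem mem_of_rel (hk : 2 ≤ k) (v : GL (Fin 2) (ZMod (2 ^ k))) (hv2 : v * v = 1) (hv1 : v ≠ 1)
    (hrel : v * (x0 (ZMod (2 ^ k)) * v * (x0 (ZMod (2 ^ k)))⁻¹)
      = (x0 (ZMod (2 ^ k)))⁻¹ * v * x0 (ZMod (2 ^ k))) :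
    v = v1 hk ∨ v = x0 (ZMod (2 ^ k)) * v1 hk * (x0 (ZMod (2 ^ k)))⁻¹ ∨
      v = (x0 (ZMod (2 ^ k)))⁻¹ * v1 hk * x0 (ZMod (2 ^ k)) := by
  obtain ⟨V, hVdef⟩ : ∃ V : Matrix (Fin 2) (Fin 2) (ZMod (2 ^ k)), V = (v : Matrix _ _ _) :=
    ⟨_, rfl⟩
  have hV2 : V * V = 1 := by
    rw [hVdef, ← Units.val_mul, hv2, Units.val_one]
  have hVrel : V * (X0 (ZMod (2 ^ k)) * V * X0i (ZMod (2 ^ k)))
      = X0i (ZMod (2 ^ k)) * V * X0 (ZMod (2 ^ k)) := by
    have := congrArg Units.val hrel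
    rw [hVdef]
    exact this
  obtain ⟨t1, t2, t3, t4⟩ := core V hV2 hVrel
  have h1 := two_mul_hh (k := k) (by omega)
  rcases eq_zero_or_eq_hh (by omega) _ t3 with hq | hq <;>
    rcases eq_zero_or_eq_hh (by omega) _ t4 with hs | hs
  · exfalso
    apply hv1
    apply Units.ext
    rw [Units.val_one, ← hVdef, Matrix.eta_fin_two V, Matrix.one_fin_two, mat2_eq_iff]
    refine ⟨?_, ?_, ?_, ?_⟩ <;> grind
  · right; right
    apply Units.ext
    show (v : Matrix (Fin 2) (Fin 2) (ZMod (2 ^ k)))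
      = X0i (ZMod (2 ^ k)) * V1 k * X0 (ZMod (2 ^ k))
    rw [← hVdef, Matrix.eta_fin_two V, X0, X0i, V1, Matrix.mul_fin_two, Matrix.mul_fin_two,
      mat2_eq_iff]
    refine ⟨?_, ?_, ?_, ?_⟩ <;> grind
  · left
    apply Units.ext
    show (v : Matrix (Fin 2) (Fin 2) (ZMod (2 ^ k))) = V1 k
    rw [← hVdef, Matrix.eta_fin_two V, V1, mat2_eq_iff]
    refine ⟨?_, ?_, ?_, ?_⟩ <;> grind
  · right; left
    apply Units.ext
    show (v : Matrix (Fin 2) (Fin 2) (ZMod (2 ^ k)))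
      = X0 (ZMod (2 ^ k)) * V1 k * X0i (ZMod (2 ^ k))
    rw [← hVdef, Matrix.eta_fin_two V, X0, X0i, V1, Matrix.mul_fin_two, Matrix.mul_fin_two,
      mat2_eq_iff]
    refine ⟨?_, ?_, ?_, ?_⟩ <;> grind

theorem closure_eq_H0 (hk : 2 ≤ k) (v : GL (Fin 2) (ZMod (2 ^ k))) (hv2 : v * v = 1) (hv1 : v ≠ 1)
    (hrel : v * (x0 (ZMod (2 ^ k)) * v * (x0 (ZMod (2 ^ k)))⁻¹)
      = (x0 (ZMod (2 ^ k)))⁻¹ * v * x0 (ZMod (2 ^ k))) :
    Subgroup.closure {x0 (ZMod (2 ^ k)), v} = H0 hk := by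
  have hx0 : x0 (ZMod (2 ^ k)) ∈ H0 hk := Subgroup.subset_closure (by simp)
  have hv1m : v1 hk ∈ H0 hk := Subgroup.subset_closure (by simp)
  have hx0' : x0 (ZMod (2 ^ k)) ∈ Subgroup.closure {x0 (ZMod (2 ^ k)), v} :=
    Subgroup.subset_closure (by simp)
  have hvm : v ∈ Subgroup.closure {x0 (ZMod (2 ^ k)), v} := Subgroup.subset_closure (by simp)
  have hcases := mem_of_rel hk v hv2 hv1 hrel
  apply le_antisymm
  · rw [Subgroup.closure_le]
    intro y hy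
    rcases hy with rfl | hy
    · exact hx0
    · rw [Set.mem_singleton_iff] at hy
      rw [hy]
      rcases hcases with h | h | h <;> rw [h]
      · exact hv1m
      · exact mul_mem (mul_mem hx0 hv1m) (inv_mem hx0)
      · exact mul_mem (mul_mem (inv_mem hx0) hv1m) hx0
  · rw [H0, Subgroup.closure_le]
    intro y hy
    rcases hy with rfl | hy
    · exact hx0'
    · rw [Set.mem_singleton_iff] at hy
      rw [hy]
      rcases hcases with h | h | h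
      · rw [← h]; exact hvm
      · have e : v1 hk = (x0 (ZMod (2 ^ k)))⁻¹ * v * x0 (ZMod (2 ^ k)) := by rw [h]; group
        rw [e]; exact mul_mem (mul_mem (inv_mem hx0') hvm) hx0'
      · have e : v1 hk = x0 (ZMod (2 ^ k)) * v * (x0 (ZMod (2 ^ k)))⁻¹ := by rw [h]; group
        rw [e]; exact mul_mem (mul_mem hx0' hvm) (inv_mem hx0')

theorem exists_gens (H : Subgroup (GL (Fin 2) (ZMod (2 ^ k))))
    (h : Nonempty (↥H ≃* ↥(alternatingGroup (Fin 4)))) :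
    ∃ x v : GL (Fin 2) (ZMod (2 ^ k)), x ^ 3 = 1 ∧ x ≠ 1 ∧ v * v = 1 ∧ v ≠ 1 ∧
      v * (x * v * x⁻¹) = x⁻¹ * v * x ∧ H = Subgroup.closure {x, v} := by
  obtain ⟨ψ⟩ := h
  obtain ⟨θ, hθ⟩ : ∃ θ : ↥(alternatingGroup (Fin 4)) →* GL (Fin 2) (ZMod (2 ^ k)),
      ∀ a, θ a = ((ψ.symm a : H) : GL (Fin 2) (ZMod (2 ^ k))) :=
    ⟨H.subtype.comp ψ.symm.toMonoidHom, fun _ => rfl⟩
  have hθinj : Function.Injective θ := by
    intro a b hab
    rw [hθ, hθ] at hab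
    exact ψ.symm.injective (Subtype.ext hab)
  have hθH : ∀ a, θ a ∈ H := fun a => by rw [hθ]; exact (ψ.symm a).2
  refine ⟨θ c4, θ t4, ?_, ?_, ?_, ?_, ?_, ?_⟩
  · rw [← map_pow, c4_pow, map_one]
  · intro h1
    exact c4_ne (hθinj (h1.trans (map_one θ).symm))
  · rw [← map_mul, t4_sq, map_one]
  · intro h1
    exact t4_ne (hθinj (h1.trans (map_one θ).symm))
  · simp only [← map_inv, ← map_mul]
    rw [rel4]
  · apply le_antisymm
    · intro g hg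
      obtain ⟨i, j, l, hijl⟩ := gen4 (ψ ⟨g, hg⟩)
      have hg' : g = θ (ψ ⟨g, hg⟩) := by
        rw [hθ, MulEquiv.symm_apply_apply]
      rw [hg', hijl, map_mul, map_mul, map_pow, map_pow, map_pow, map_mul, map_mul, map_inv]
      have hx : θ c4 ∈ Subgroup.closure {θ c4, θ t4} := Subgroup.subset_closure (by simp)
      have hv : θ t4 ∈ Subgroup.closure {θ c4, θ t4} := Subgroup.subset_closure (by simp)
      exact mul_mem (mul_mem (pow_mem hx _) (pow_mem hv _))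
        (pow_mem (mul_mem (mul_mem hx hv) (inv_mem hx)) _)
    · rw [Subgroup.closure_le]
      intro y hy
      rcases hy with rfl | hy
      · exact hθH _
      · rw [Set.mem_singleton_iff] at hy
        rw [hy]; exact hθH _

theorem mem_map_conj {G : Type*} [Group G] (H : Subgroup G) (g y : G) :
    y ∈ H.map (MulAut.conj g).toMonoidHom ↔ g⁻¹ * y * g ∈ H := by
  constructor
  · rintro ⟨z, hz, rfl⟩
    have : g⁻¹ * ((MulAut.conj g).toMonoidHom z) * g = z := by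
      show g⁻¹ * (g * z * g⁻¹) * g = z
      group
    rw [this]; exact hz
  · intro h
    refine ⟨g⁻¹ * y * g, h, ?_⟩
    show g * (g⁻¹ * y * g) * g⁻¹ = y
    group

theorem exists_conj_H0 (hk : 2 ≤ k) (H : Subgroup (GL (Fin 2) (ZMod (2 ^ k))))
    (h : Nonempty (↥H ≃* ↥(alternatingGroup (Fin 4)))) :
    ∃ g : GL (Fin 2) (ZMod (2 ^ k)), H.map (MulAut.conj g).toMonoidHom = H0 hk := by
  obtain ⟨x, v, hx3, hx1, hv2, hv1, hrel, hH⟩ := exists_gens H h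
  obtain ⟨g, hg⟩ := exists_conj_x0 (by omega) x hx3 hx1
  refine ⟨g, ?_⟩
  rw [hH, MonoidHom.map_closure, Set.image_pair]
  have e1 : (MulAut.conj g).toMonoidHom x = x0 (ZMod (2 ^ k)) := hg
  rw [e1]
  obtain ⟨v', hv'⟩ : ∃ v', v' = (MulAut.conj g).toMonoidHom v := ⟨_, rfl⟩
  rw [← hv']
  have hv'e : v' = g * v * g⁻¹ := hv'
  apply closure_eq_H0 hk v'
  · rw [hv'e]
    calc g * v * g⁻¹ * (g * v * g⁻¹) = g * (v * v) * g⁻¹ := by group
      _ = 1 := by rw [hv2]; group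
  · intro h1
    apply hv1
    rw [hv'e] at h1
    calc v = g⁻¹ * (g * v * g⁻¹) * g := by group
      _ = 1 := by rw [h1]; group
  · rw [← hg, hv'e]
    calc g * v * g⁻¹ * (g * x * g⁻¹ * (g * v * g⁻¹) * (g * x * g⁻¹)⁻¹)
        = g * (v * (x * v * x⁻¹)) * g⁻¹ := by group
      _ = g * (x⁻¹ * v * x) * g⁻¹ := by rw [hrel]
      _ = (g * x * g⁻¹)⁻¹ * (g * v * g⁻¹) * (g * x * g⁻¹) := by group

/-- any two subgroups of `GL₂(ℤ/2ᵏ)`, `k ≥ 2`, isomorphic to `A₄` are conjugate. -/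
theorem main (k : ℕ) (hk : 2 ≤ k) (H₁ H₂ : Subgroup (GL (Fin 2) (ZMod (2 ^ k))))
    (h₁ : Nonempty (↥H₁ ≃* ↥(alternatingGroup (Fin 4))))
    (h₂ : Nonempty (↥H₂ ≃* ↥(alternatingGroup (Fin 4)))) :
    ∃ g : GL (Fin 2) (ZMod (2 ^ k)), H₂ = H₁.map (MulAut.conj g).toMonoidHom := by
  obtain ⟨g₁, hg₁⟩ := exists_conj_H0 hk H₁ h₁
  obtain ⟨g₂, hg₂⟩ := exists_conj_H0 hk H₂ h₂
  refine ⟨g₂⁻¹ * g₁, ?_⟩
  ext y
  rw [mem_map_conj]
  have e1 : ∀ z, z ∈ H0 hk ↔ g₁⁻¹ * z * g₁ ∈ H₁ := fun z => by rw [← hg₁, mem_map_conj]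
  have e2 : ∀ z, z ∈ H0 hk ↔ g₂⁻¹ * z * g₂ ∈ H₂ := fun z => by rw [← hg₂, mem_map_conj]
  have e3 := e2 (g₂ * y * g₂⁻¹)
  have e4 := e1 (g₂ * y * g₂⁻¹)
  have s1 : g₂⁻¹ * (g₂ * y * g₂⁻¹) * g₂ = y := by group
  have s2 : g₁⁻¹ * (g₂ * y * g₂⁻¹) * g₁ = (g₂⁻¹ * g₁)⁻¹ * y * (g₂⁻¹ * g₁) := by group
  rw [s1] at e3
  rw [s2] at e4
  rw [← e3, e4]

end Main

end Cfsg.Agent.Lib.Helper68.A4GL2
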