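import Mathlib
import Cfsg.Agent.Lib.Helper68.Metacyclic3

/-!
Metacyclic `p`-groups (`p` odd): the center and centralizers of subgroups containing the center:
`|L| |C_G(L)| = |G| |Z(G)|` for `Z(G) ≤ L`.
-/

set_option autoImplicit false

namespace Cfsg.Agent.Lib.Helper68

namespace MC

variable {G : Type*} [Group G] [Finite G] {p : ℕ} {a b : G} {m J d e : ℕ}

theorem center_eq (h : MC p a b m J d e) (hp : p.Prime) (hp2 : p ≠ 2) :
    Subgroup.center G = Subgroup.closure {x : G | ∃ y : G, y ^ p ^ (m - e) = x} := by
  ext z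
  have key : z ∈ Subgroup.closure {x : G | ∃ y : G, y ^ p ^ (m - e) = x}
      ↔ (Subgroup.centralizer ({z} : Set G)).index ≤ p ^ (m - e - (m - e)) := by
    rw [h.mem_closure_pow_iff hp hp2]
    constructor
    · rintro ⟨i, j, rfl⟩
      rw [h.index_centralizer_le_iff hp hp2 le_rfl]
      exact ⟨Dvd.intro _ rfl, Dvd.intro _ rfl⟩
    · intro hle
      obtain ⟨i, j, rfl⟩ := h.hdec z
      obtain ⟨⟨i', rfl⟩, ⟨j', rfl⟩⟩ := (h.index_centralizer_le_iff hp hp2 le_rfl i j).1 hle
      exact ⟨i', j', rfl⟩
  rw [key, Nat.sub_self, pow_zero, Subgroup.mem_center_iff]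
  constructor
  · intro hz
    have : Subgroup.centralizer ({z} : Set G) = ⊤ := by
      rw [eq_top_iff]
      intro g _
      rw [Subgroup.mem_centralizer_iff]
      intro x hx
      rw [Set.mem_singleton_iff] at hx
      rw [hx]
      exact (hz g).symm
    rw [this, Subgroup.index_top]
  · intro hz
    have h1 : (Subgroup.centralizer ({z} : Set G)).index = 1 :=
      le_antisymm hz (Nat.one_le_iff_ne_zero.2 Subgroup.index_ne_zero_of_finite)
    have h2 := Subgroup.index_eq_one.1 h1
    intro g
    have : g ∈ Subgroup.centralizer ({z} : Set G) := h2 ▸ Subgroup.mem_top g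
    rw [Subgroup.mem_centralizer_iff] at this
    exact (this z rfl).symm

theorem card_center (h : MC p a b m J d e) (hp : p.Prime) (hp2 : p ≠ 2) :
    Nat.card (Subgroup.center G) = p ^ (m - (m - e)) * p ^ (J - (m - e)) := by
  rw [h.center_eq hp hp2, h.card_closure_pow hp hp2 le_rfl]

/-- `|L| |C_G(L)| = |G| |Z(G)|` for subgroups `L` containing the center. -/
theorem card_centralizer (h : MC p a b m J d e) (hp : p.Prime) (hp2 : p ≠ 2) (L : Subgroup G)
    (hZ : Subgroup.center G ≤ L) :
    Nat.card L * Nat.card (Subgroup.centralizer (L : Set G))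
      = Nat.card G * Nat.card (Subgroup.center G) := by
  have hem := h.e_le hp
  have hmJ := h.m_le hp hp2
  have hcen := h.center_eq hp hp2
  have haZ : a ^ p ^ (m - e) ∈ Subgroup.center G := by
    rw [hcen]
    exact Subgroup.subset_closure ⟨a, rfl⟩
  have hbZ : b ^ p ^ (m - e) ∈ Subgroup.center G := by
    rw [hcen]
    exact Subgroup.subset_closure ⟨b, rfl⟩
  obtain ⟨u, v, i, hu, hv, hu', hyL, hdecL, hcardL, hvL⟩ := h.sub_coords hp L
  have hun : u ≤ m - e := (Nat.pow_dvd_pow_iff_le_right hp.one_lt).1 ((hu' _).1 (hZ haZ))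
  have hvn : v ≤ m - e := by
    have h1 : a ^ 0 * b ^ p ^ (m - e) ∈ L := by simpa using hZ hbZ
    exact (Nat.pow_dvd_pow_iff_le_right hp.one_lt).1 (hvL _ _ h1)
  have haL : a ^ p ^ u ∈ L := (hu' _).2 dvd_rfl
  -- membership in the centralizer
  have hmemC : ∀ x : G, Commute x (a ^ p ^ u) → Commute x (a ^ i * b ^ p ^ v) →
      x ∈ Subgroup.centralizer (L : Set G) := by
    intro x h1 h2
    rw [Subgroup.mem_centralizer_iff]
    intro z hz
    obtain ⟨s, t, rfl⟩ := hdecL z hz
    exact ((h2.pow_right s).mul_right (h1.pow_right t)).eq.symm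
  have hCcomm : ∀ x ∈ Subgroup.centralizer (L : Set G), ∀ z ∈ L, Commute x z := by
    intro x hx z hz
    rw [Subgroup.mem_centralizer_iff] at hx
    exact (hx z hz).symm
  obtain ⟨u', v', i', hu'C, hv'C, hu'', hxC, _, hcardC, hvC⟩ :=
    h.sub_coords hp (Subgroup.centralizer (L : Set G))
  have hbcomm : ∀ k : ℕ, Commute (a ^ k) (a ^ i * b ^ p ^ v) ↔ Commute (b ^ p ^ v) (a ^ k) := by
    intro k
    constructor
    · intro hc
      have h3 : Commute (a ^ k) ((a ^ i)⁻¹) := ((Commute.refl a).pow_pow k i).inv_right
      have := (h3.mul_right hc).symm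
      simpa using this
    · intro hc
      exact ((Commute.refl a).pow_pow k i).mul_right hc.symm
  have hu1 : u' = m - e - v := by
    apply le_antisymm
    · have h1 : a ^ p ^ (m - e - v) ∈ Subgroup.centralizer (L : Set G) := by
        apply hmemC
        · exact (Commute.refl a).pow_pow _ _
        · rw [hbcomm, h.commute_pow_iff hp hp2]
          omega
      exact (Nat.pow_dvd_pow_iff_le_right hp.one_lt).1 ((hu'' _).1 h1)
    · have h1 : a ^ p ^ u' ∈ Subgroup.centralizer (L : Set G) := (hu'' _).2 dvd_rfl
      have h2 := (hbcomm _).1 (hCcomm _ h1 _ hyL)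
      rw [h.commute_pow_iff hp hp2] at h2
      omega
  have hbu : Commute (b ^ p ^ (m - e - u)) (a ^ p ^ u) := by
    rw [h.commute_pow_iff hp hp2]
    omega
  have hv1 : v' = m - e - u := by
    apply le_antisymm
    · -- an element of the centralizer of the form a^k b^(p^(n-u))
      have hex : ∃ k : ℕ, a ^ k * b ^ p ^ (m - e - u) ∈ Subgroup.centralizer (L : Set G) := by
        by_cases hcase : u + v ≤ m - e
        · refine ⟨i * ∑ q ∈ Finset.range (p ^ (m - e - u - v)), ((1 + d) ^ p ^ v) ^ q, ?_⟩
          have hpw : (a ^ i * b ^ p ^ v) ^ p ^ (m - e - u - v)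
              = a ^ (i * ∑ q ∈ Finset.range (p ^ (m - e - u - v)), ((1 + d) ^ p ^ v) ^ q)
                * b ^ p ^ (m - e - u) := by
            rw [pow_formula h.hconj, ← pow_add]
            congr 3
            omega
          apply hmemC
          · exact ((Commute.refl a).pow_pow _ _).mul_left hbu
          · rw [← hpw]
            exact (Commute.refl _).pow_left _
        · push Not at hcase
          -- constraint on i
          have hpw : (a ^ i * b ^ p ^ v) ^ p ^ (m - e - v)
              = a ^ (i * ∑ q ∈ Finset.range (p ^ (m - e - v)), ((1 + d) ^ p ^ v) ^ q)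
                * b ^ p ^ (m - e) := by
            rw [pow_formula h.hconj, ← pow_add]
            congr 3
            omega
          have h1 : a ^ (i * ∑ q ∈ Finset.range (p ^ (m - e - v)), ((1 + d) ^ p ^ v) ^ q) ∈ L := by
            have h2 : (a ^ i * b ^ p ^ v) ^ p ^ (m - e - v) * (b ^ p ^ (m - e))⁻¹ ∈ L :=
              L.mul_mem (L.pow_mem hyL _) (L.inv_mem (hZ hbZ))
            rw [hpw] at h2
            simpa using h2
          have hδ : ∀ j : ℕ, p ∣ (1 + d) ^ j - 1 := by
            intro j
            have := (key_dvd hp hp2 h.hpd 1 1 j).2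
              (by rw [pow_one, one_mul]; exact Dvd.dvd.mul_right h.hpd j)
            rwa [pow_one, one_mul] at this
          have hρ : ∀ j : ℕ, 1 + ((1 + d) ^ j - 1) = (1 + d) ^ j := by
            intro j
            have : 0 < (1 + d) ^ j := pow_pos (by omega) _
            omega
          have h3 : p ^ u ∣ i * p ^ (m - e - v) := by
            have key := geom_dvd hp hp2 (hδ (p ^ v)) u i (p ^ (m - e - v))
            rw [hρ] at key
            exact key.1 ((hu' _).1 h1)
          have h4 : p ^ (u + v - (m - e)) ∣ i := by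
            have : p ^ u = p ^ (u + v - (m - e)) * p ^ (m - e - v) := by
              rw [← pow_add]
              congr 1
              omega
            rw [this] at h3
            exact (Nat.mul_dvd_mul_iff_right (pow_pos hp.pos _)).1 h3
          obtain ⟨i1, hi1⟩ := h4
          -- the geometric sum T = P * w, w prime to p
          have keyT := fun M => geom_dvd hp hp2 (hδ (p ^ (m - e - u))) M 1 (p ^ (u + v - (m - e)))
          simp only [hρ, one_mul] at keyT
          obtain ⟨w, hw⟩ := (keyT (u + v - (m - e))).2 dvd_rfl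
          have hwp : ¬ p ∣ w := by
            intro hh
            have h5 : p ^ (u + v - (m - e) + 1)
                ∣ ∑ q ∈ Finset.range (p ^ (u + v - (m - e))), ((1 + d) ^ p ^ (m - e - u)) ^ q := by
              rw [hw, pow_succ]
              exact Nat.mul_dvd_mul_left _ hh
            have h6 := (keyT _).1 h5
            have := (Nat.pow_dvd_pow_iff_le_right hp.one_lt).1 h6
            omega
          obtain ⟨w', hw'⟩ : ∃ w', w * w' ≡ 1 [MOD p ^ m] := by
            by_cases hm0 : m = 0
            · exact ⟨0, by rw [hm0, pow_zero]; exact Nat.modEq_one⟩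
            · have hcop : Nat.Coprime w (p ^ m) :=
                Nat.Coprime.pow_right m ((Nat.Prime.coprime_iff_not_dvd hp).2 hwp).symm
              obtain ⟨w', -, hw'⟩ := Nat.exists_mul_mod_eq_one_of_coprime hcop
                (Nat.one_lt_pow hm0 hp.one_lt)
              refine ⟨w', ?_⟩
              unfold Nat.ModEq
              rw [hw', Nat.mod_eq_of_lt (Nat.one_lt_pow hm0 hp.one_lt)]
          refine ⟨i1 * w', ?_⟩
          have hpw2 : (a ^ (i1 * w') * b ^ p ^ (m - e - u)) ^ p ^ (u + v - (m - e))
              = a ^ i * b ^ p ^ v := by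
            rw [pow_formula h.hconj, ← pow_add, hw]
            have e1 : m - e - u + (u + v - (m - e)) = v := by omega
            rw [e1]
            congr 1
            rw [pow_eq_pow_iff_modEq, h.ha, hi1]
            have e2 : i1 * w' * (p ^ (u + v - (m - e)) * w)
                = p ^ (u + v - (m - e)) * i1 * (w * w') := by ring
            rw [e2]
            have := Nat.ModEq.mul_left (p ^ (u + v - (m - e)) * i1) hw'
            rwa [mul_one] at this
          apply hmemC
          · exact ((Commute.refl a).pow_pow _ _).mul_left hbu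
          · rw [← hpw2]
            exact (Commute.refl _).pow_right _
      obtain ⟨k, hk⟩ := hex
      exact (Nat.pow_dvd_pow_iff_le_right hp.one_lt).1 (hvC _ _ hk)
    · have h2 : Commute (a ^ i' * b ^ p ^ v') (a ^ p ^ u) := hCcomm _ hxC _ haL
      have h3 : Commute ((a ^ i')⁻¹) (a ^ p ^ u) := ((Commute.refl a).pow_pow i' (p ^ u)).inv_left
      have h4 : Commute (b ^ p ^ v') (a ^ p ^ u) := by
        have := h3.mul_left h2
        simpa using this
      rw [h.commute_pow_iff hp hp2] at h4
      omega
  rw [hcardL, hcardC, hu1, hv1, h.hcard, h.card_center hp hp2]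
  simp only [← pow_add]
  congr 1
  omega

end MC

end Cfsg.Agent.Lib.Helper68
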